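import Groth.Agent.IntProd70.Basic
import Groth.Agent.EulerFam.Scheme
import Groth.Agent.EulerFam.Tau
import Groth.Agent.CBC.DescendWin
import Groth.Agent.Snapper.BaseChange
import Groth.Agent.TopDimLib.Basic
import Groth.Agent.PicCl.Basic
import Groth.Agent.TwistFlat.Core
import Mathlib.Combinatorics.Nullstellensatz
import Mathlib.RingTheory.KrullDimension.Polynomial

/-!
# Euler characteristics in flat proper families over arbitrary bases

Local constancy of `χ` of the fibres without Noetherian hypotheses, a local bound on the dimension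
of the fibres, and uniform local constancy of Snapper polynomials.
-/

universe u

set_option autoImplicit false
set_option linter.style.haveILetI false

open CategoryTheory CategoryTheory.Limits AlgebraicGeometry TopologicalSpace TensorProduct
open Groth.Agent.QCoh Groth.Agent.Props.GenLocus Groth.Agent.Props.GenTensor Groth.Agent.Props.GenProd
open Groth.Agent.LimTop.TwistSec

noncomputable section

namespace Groth.Agent.IntProd70

/-- The fibres over a point of the spectrum have bounded dimension. -/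
theorem exists_ringKrullDim_fiber_le (A B : Type u) [CommRing A] [CommRing B] [Algebra A B]
    [Algebra.FiniteType A B] :
    ∃ N : ℕ, ∀ (p : Ideal A) [p.IsPrime], ringKrullDim (p.Fiber B) ≤ (N : WithBot ℕ∞) := by
  obtain ⟨N, π, hπ⟩ := Algebra.FiniteType.iff_quotient_mvPolynomial''.1 (inferInstance : Algebra.FiniteType A B)
  refine ⟨N, fun p hp => ?_⟩
  let φ : p.ResidueField ⊗[A] MvPolynomial (Fin N) A →ₐ[p.ResidueField] p.Fiber B :=
    Algebra.TensorProduct.map (AlgHom.id p.ResidueField p.ResidueField) π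
  have hφ : Function.Surjective φ := LinearMap.lTensor_surjective p.ResidueField (g := π.toLinearMap) hπ
  have h := ringKrullDim_le_of_surjective φ.toRingHom hφ
  rw [ringKrullDim_eq_of_ringEquiv (MvPolynomial.algebraTensorAlgEquiv A p.ResidueField).toRingEquiv,
    MvPolynomial.ringKrullDim_of_isNoetherianRing, ringKrullDim_eq_zero_of_field, zero_add, Nat.card_fin] at h
  exact h

variable {X S : Scheme.{u}} {f : X ⟶ S}

/-- The fibres over an affine open have bounded dimension. -/
theorem exists_fibreDim_le [LocallyOfFiniteType f] [QuasiCompact f] {V : S.Opens} (hV : IsAffineOpen V) :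
    ∃ N : ℕ, ∀ s ∈ V, topologicalKrullDim ↥(f.fiber s) ≤ (N : WithBot ℕ∞) := by
  classical
  have hcpt : IsCompact ((f ⁻¹ᵁ V : X.Opens) : Set X) :=
    f.isCompact_preimage hV.isCompact
  choose U hU hxU hUV using fun x : (f ⁻¹ᵁ V : X.Opens) =>
    exists_isAffineOpen_mem_and_subset (U := f ⁻¹ᵁ V) x.2
  obtain ⟨t, ht⟩ := hcpt.elim_finite_subcover (fun x => (U x : Set X)) (fun x => (U x).isOpen)
    fun x hx => Set.mem_iUnion.2 ⟨⟨x, hx⟩, hxU _⟩
  have hb : ∀ x : (f ⁻¹ᵁ V : X.Opens), ∃ N : ℕ, ∀ s ∈ V,
      topologicalKrullDim ↥((f.fiberι s) ⁻¹' (U x : Set X)) ≤ (N : WithBot ℕ∞) := by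
    intro x
    let e : U x ≤ f ⁻¹ᵁ V := fun z hz => hUV x hz
    letI := (f.appLE V (U x) e).hom.toAlgebra
    haveI : Algebra.FiniteType Γ(S, V) Γ(X, U x) :=
      LocallyOfFiniteType.finiteType_appLE f hV (hU x) e
    obtain ⟨N, hN⟩ := exists_ringKrullDim_fiber_le Γ(S, V) Γ(X, U x)
    refine ⟨N, fun s hs => ?_⟩
    let p := hV.primeIdealOf ⟨s, hs⟩
    let e₁ : ↥((f.fiberι s) ⁻¹' (U x : Set X)) → ↥(U x : Set X) := (U x : Set X).restrictPreimage (f.fiberι s)
    have he₁ : Topology.IsInducing e₁ :=
      (f.fiberι s).isEmbedding.isInducing.restrictPreimage _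
    let e₂ : ↥(U x : Set X) → PrimeSpectrum Γ(X, U x) := fun z => (hU x).primeIdealOf z
    have he₂ : Topology.IsInducing e₂ := (Scheme.homeoOfIso (hU x).isoSpec).isEmbedding.isInducing
    have hmem : ∀ z, e₂ (e₁ z) ∈ PrimeSpectrum.comap (algebraMap Γ(S, V) Γ(X, U x)) ⁻¹' {p} := by
      intro z
      have hz : f ((e₁ z : X)) = s := by
        have := Set.mem_range_self (f := f.fiberι s) z.1
        rw [f.range_fiberι] at this
        exact this
      rw [Set.mem_preimage, Set.mem_singleton_iff]
      exact (IsAffineOpen.comap_primeIdealOf_appLE V hV (U x) (hU x) e (e₁ z).2).trans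
        (congrArg hV.primeIdealOf (Subtype.ext hz))
    refine ((he₂.comp he₁).codRestrict hmem).topologicalKrullDim_le.trans ?_
    rw [(PrimeSpectrum.preimageHomeomorphFiber Γ(S, V) Γ(X, U x) p).isEmbedding.isInducing.topologicalKrullDim_le.antisymm
      (PrimeSpectrum.preimageHomeomorphFiber Γ(S, V) Γ(X, U x) p).symm.isEmbedding.isInducing.topologicalKrullDim_le,
      PrimeSpectrum.topologicalKrullDim_eq_ringKrullDim]
    exact hN p.asIdeal
  choose N hN using hb
  refine ⟨t.sup N, fun s hs => TopDimLib.topDim_le_iff.2 fun l => ?_⟩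
  obtain ⟨w, hw⟩ := l.head.isIrreducible.1
  have hwV : f.fiberι s w ∈ f ⁻¹ᵁ V := by
    have := Set.mem_range_self (f := f.fiberι s) w
    rw [f.range_fiberι] at this
    show f (f.fiberι s w) ∈ V
    rw [show f (f.fiberι s w) = s from this]
    exact hs
  obtain ⟨x, hxt, hwx⟩ := Set.mem_iUnion₂.1 (ht hwV)
  refine (TopDimLib.length_le_of_open l ((U x).isOpen.preimage (f.fiberι s).continuous) hw hwx).trans
    ((hN x s hs).trans ?_)
  exact_mod_cast Finset.le_sup (f := N) hxt

/-- Tensoring with an invertible module preserves finite presentation. -/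
theorem isFP_tensor {F L : X.Modules} [F.IsQuasicoherent] (hF : CohB1.IsFP F) (hL : PicF.IsInvertible L) :
    (CohB1.tensorMod F L).IsQuasicoherent ∧ CohB1.IsFP (CohB1.tensorMod F L) := by
  haveI : L.IsQuasicoherent := ProjTwist.isQCoh_of_isInvertible hL
  haveI hq : (CohB1.tensorMod F L).IsQuasicoherent := LimTop.TensorQC.isQuasicoherent_tensM F L
  refine ⟨hq, Props.QFP.isFP_of_forall_exists _ fun x => ?_⟩
  obtain ⟨U₀, g, hxU₀, hg⟩ := exists_isGen hL x
  obtain ⟨U, hU, hxU, hle⟩ := exists_isAffineOpen_mem_and_subset (U := U₀) (x := x) hxU₀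
  refine ⟨U, hU, hxU, ?_⟩
  haveI := (Props.QFP.isFP_iff F).1 hF U hU
  let φ : Γ(F, U) →ₗ[Γ(X, U)] Γ(CohB1.tensorMod F L, U) :=
    { toFun := fun m => tmul m (res L hle g)
      map_add' := fun a b => AmpleLib.tmul_add_left a b _
      map_smul' := fun r m => tmul_smul_left r m _ }
  exact Module.FinitePresentation.of_equiv (LinearEquiv.ofBijective φ
    ⟨tmul_gen_injective hg hle, tmul_gen_surjective hg hle⟩)

/-- Local constancy of `χ` of the fibres over an arbitrary base. -/
theorem isLocallyConstant_euler [IsProper f] [LocallyOfFinitePresentation f] {F : X.Modules}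
    [F.IsQuasicoherent] (hF : CohB1.IsFP F) (hfl : FlatMod.IsFlatOver f F) :
    IsLocallyConstant (fun s : S => @Curv2.euler (S.residueField s) _ (f.fiber s)
      ⟨f.fiberToSpecResidueField s⟩ ((Scheme.Modules.pullback (f.fiberι s)).obj F)) := by
  refine (IsLocallyConstant.iff_exists_open _).2 fun s => ?_
  obtain ⟨V, hV, hs, -⟩ := exists_isAffineOpen_mem_and_subset (U := (⊤ : S.Opens)) (x := s) trivial
  let W := f ⁻¹ᵁ V
  let u : W.toScheme ⟶ Spec (CommRingCat.of Γ(S, V)) := CBC.overV f hV
  have hpb : IsPullback u W.ι hV.fromSpec f := CBC.isPullback_overV f hV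
  haveI : IsProper u := MorphismProperty.of_isPullback hpb.flip ‹IsProper f›
  haveI : LocallyOfFinitePresentation u :=
    MorphismProperty.of_isPullback hpb.flip ‹LocallyOfFinitePresentation f›
  haveI hq : (F.restrict W.ι).IsQuasicoherent := Scheme.Modules.isQuasicoherent_restrictFunctor _ F
  have hF' : CohB1.IsFP (F.restrict W.ι) :=
    S2115.isFP_of_iso ((Scheme.Modules.restrictFunctorIsoPullback W.ι).app F).symm
      (ConsPairLib.isFP_pullback W.ι F hF).2
  have hfl' : FlatMod.IsFlatOver u (F.restrict W.ι) :=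
    (TwistFlat.isFlatOver_restrict_iff hpb F).2 fun x => hfl _
  obtain ⟨A₀, X₀, u₀, q, F₀, hA₀, hu₀, H, hF₀, hfl₀, ⟨e⟩⟩ :=
    CBC.exists_noetherian_model u (F.restrict W.ι) hF' hfl'
  haveI : IsNoetherianRing A₀ := by
    have := (Subalgebra.fg_iff_finiteType A₀).mp hA₀
    exact Algebra.FiniteType.isNoetherianRing ℤ A₀
  haveI : IsLocallyNoetherian (Spec (CommRingCat.of A₀)) := inferInstance
  obtain ⟨φ, hlc, hφ⟩ := EulerFam.exists_isLocallyConstant (f := u₀) hF₀ hfl₀
  let T := Spec.map (CommRingCat.ofHom A₀.val.toRingHom)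
  let ψ : V → ℤ := fun v => φ (T (hV.primeIdealOf v))
  have hψ : IsLocallyConstant ψ :=
    (hlc.comp_continuous T.continuous).comp_continuous
      (by exact (Scheme.homeoOfIso hV.isoSpec).continuous)
  have key : ∀ (s' : S) (hs' : s' ∈ V), @Curv2.euler (S.residueField s') _ (f.fiber s')
      ⟨f.fiberToSpecResidueField s'⟩ ((Scheme.Modules.pullback (f.fiberι s')).obj F) = ψ ⟨s', hs'⟩ := by
    intro s' hs'
    letI : (f.fiber s').Over (Spec (CommRingCat.of (S.residueField s'))) := ⟨f.fiberToSpecResidueField s'⟩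
    have hr : Set.range (S.fromSpecResidueField s') ⊆ Set.range hV.fromSpec := by
      rw [Scheme.range_fromSpecResidueField, hV.range_fromSpec]
      simpa using hs'
    let g' := IsOpenImmersion.lift hV.fromSpec (S.fromSpecResidueField s') hr
    have hg' : g' ≫ hV.fromSpec = S.fromSpecResidueField s' := IsOpenImmersion.lift_fac _ _ hr
    have hw : f.fiberι s' ≫ f = (f.fiberToSpecResidueField s' ≫ g') ≫ hV.fromSpec := by
      rw [Category.assoc, hg']
      exact (IsPullback.of_hasPullback f (S.fromSpecResidueField s')).w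
    let p' := hpb.flip.lift (f.fiberι s') (f.fiberToSpecResidueField s' ≫ g') hw
    have hp₁ : p' ≫ W.ι = f.fiberι s' := hpb.flip.lift_fst _ _ hw
    have hsq : IsPullback p' (f.fiberToSpecResidueField s') u g' := by
      refine IsPullback.of_right (h₁₂ := W.ι) (v₁₃ := f) (h₂₂ := hV.fromSpec) ?_
        (hpb.flip.lift_snd _ _ hw) hpb.flip
      rw [hp₁, hg']
      exact IsPullback.of_hasPullback f (S.fromSpecResidueField s')
    have H' := hsq.paste_horiz H
    let z : Spec (CommRingCat.of (S.residueField s')) := Classical.arbitrary (Spec (S.residueField s'))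
    have h := hφ (S.residueField s') (g' ≫ T) (f.fiber s') (p' ≫ q) (f.fiberToSpecResidueField s') H' z
    have hz : g' z = hV.primeIdealOf ⟨s', hs'⟩ := by
      refine hV.fromSpec.isOpenEmbedding.injective ?_
      rw [hV.fromSpec_primeIdealOf, ← Scheme.Hom.comp_apply, hg']
      exact S.fromSpecResidueField_apply s' z
    refine Eq.trans ?_ (h.trans (congrArg φ (congrArg T hz)))
    unfold Curv2.euler
    refine finsum_congr fun i => ?_
    congr 2
    exact Snapper.finrank_HH_iso _ ((Scheme.Modules.pullbackCongr hp₁.symm).app F ≪≫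
      ((Scheme.Modules.pullbackComp p' W.ι).app F).symm ≪≫
      (Scheme.Modules.pullback p').mapIso
        (((Scheme.Modules.restrictFunctorIsoPullback W.ι).app F).symm ≪≫ e.symm) ≪≫
      (Scheme.Modules.pullbackComp p' q).app F₀) i
  obtain ⟨O, hO, hsO, hOc⟩ := (IsLocallyConstant.iff_exists_open ψ).1 hψ ⟨s, hs⟩
  refine ⟨Subtype.val '' O, V.isOpen.isOpenMap_subtype_val O hO, ⟨_, hsO, rfl⟩, ?_⟩
  rintro _ ⟨⟨s', hs'⟩, hsO', rfl⟩
  rw [key s' hs', key s hs]
  exact hOc _ hsO'

/-- Uniform local constancy of Snapper polynomials. -/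
theorem exists_nhd_snapper [IsProper f] [LocallyOfFinitePresentation f] {F : X.Modules}
    [F.IsQuasicoherent] (hF : CohB1.IsFP F) (hfl : FlatMod.IsFlatOver f F)
    (t : ℕ) (L : Fin t → X.Modules) (hL : ∀ i, PicF.IsInvertible (L i)) (s : S) :
    ∃ U : S.Opens, s ∈ U ∧ ∀ s' : S, s' ∈ U → ∀ n : Fin t → ℕ,
      @Curv2.euler (S.residueField s') _ (f.fiber s') ⟨f.fiberToSpecResidueField s'⟩
            ((Scheme.Modules.pullback (f.fiberι s')).obj (Curv2.tensorPows F t L n)) =
        @Curv2.euler (S.residueField s) _ (f.fiber s) ⟨f.fiberToSpecResidueField s⟩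
            ((Scheme.Modules.pullback (f.fiberι s)).obj (Curv2.tensorPows F t L n)) := by
  classical
  obtain ⟨V, hV, hs, -⟩ := exists_isAffineOpen_mem_and_subset (U := (⊤ : S.Opens)) (x := s) trivial
  obtain ⟨N, hN⟩ := exists_fibreDim_le (f := f) hV
  let φ : (Fin t → ℕ) → S → ℤ := fun n a => @Curv2.euler (S.residueField a) _ (f.fiber a)
    ⟨f.fiberToSpecResidueField a⟩ ((Scheme.Modules.pullback (f.fiberι a)).obj (Curv2.tensorPows F t L n))
  -- each function is locally constant
  have hlc : ∀ n, IsLocallyConstant (φ n) := by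
    intro n
    have hm := Snapper.isInvertible_multiTwist hL n
    obtain ⟨hq', hfp'⟩ := isFP_tensor (F := F) hF hm
    haveI := hq'
    have hfl' := TwistFlat.isFlatOver_tensor f F hm hfl
    have h := isLocallyConstant_euler (f := f) hfp' hfl'
    convert h using 2 with a
    letI : (f.fiber a).Over (Spec (CommRingCat.of (S.residueField a))) := ⟨f.fiberToSpecResidueField a⟩
    refine finsum_congr fun i => ?_
    congr 2
    exact Snapper.finrank_HH_iso _ ((Scheme.Modules.pullback (f.fiberι a)).mapIso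
      ((tensorPows_iso F t L n).some ≪≫ ProjTwist.tensComm _ F)) i
  -- each fibre has a polynomial
  have hpoly : ∀ a ∈ V, ∃ P : MvPolynomial (Fin t) ℚ, P.totalDegree ≤ N ∧
      ∀ n, (φ n a : ℚ) = MvPolynomial.eval (Snapper.castV n) P := by
    intro a ha
    letI : (f.fiber a).Over (Spec (CommRingCat.of (S.residueField a))) := ⟨f.fiberToSpecResidueField a⟩
    haveI : IsProper ((f.fiber a) ↘ Spec (CommRingCat.of (S.residueField a))) :=
      MorphismProperty.of_isPullback (IsPullback.of_hasPullback f (S.fromSpecResidueField a)) ‹IsProper f›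
    haveI := EulerChar.isNoetherian (S.residueField a) (X := f.fiber a)
    let ι := f.fiberι a
    obtain ⟨hq', hfp'⟩ := ConsPairLib.isFP_pullback ι F hF
    have hF' : Coh.IsCoh ((Scheme.Modules.pullback ι).obj F) := ConsPairLib.isCoh_of_isFP _ hfp'
    obtain ⟨P, hP, hPn⟩ := Snapper.exists_snapper (S.residueField a)
      (L := fun i => (Scheme.Modules.pullback ι).obj (L i))
      (fun i => PicCl.isInvertible_pullback ι (hL i)) N hF' (EulerChar.dim_support_le (hN a ha))
    refine ⟨P, hP, fun n => ?_⟩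
    rw [← hPn n]
    refine congrArg _ (EulerChar.euler_iso (S.residueField a) (Nonempty.some ?_))
    obtain ⟨e₁⟩ := Snapper.pullback_tensorList ι ((List.finRange t).map fun i => CohB1.tensorPow (L i) (n i))
    have e₂ : Nonempty (FGA.tensorList (((List.finRange t).map fun i => CohB1.tensorPow (L i) (n i)).map
        (Scheme.Modules.pullback ι).obj) ≅ FGA.multiTwist (fun i => (Scheme.Modules.pullback ι).obj (L i)) n) := by
      unfold FGA.multiTwist
      rw [List.map_map]
      induction List.finRange t with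
      | nil => exact ⟨Iso.refl _⟩
      | cons b l ih =>
        obtain ⟨e⟩ := ih
        exact ⟨ProjTwist.tensCongr (EulerFam.pullback_tensorPow ι (L b) (n b)).some e⟩
    exact ⟨(Scheme.Modules.pullback ι).mapIso (tensorPows_iso F t L n).some ≪≫
      KFlat.PullTensor.pullTensorIso ι _ F ≪≫ ProjTwist.tensCongr (e₁ ≪≫ e₂.some) (Iso.refl _)⟩
  -- finitely many exponents decide
  let G : Finset (Fin t → ℕ) := Fintype.piFinset fun _ => Finset.range (N + 1)
  have hfin : IsOpen ({a | a ∈ V} ∩ ⋂ n ∈ G, {a | φ n a = φ n s}) :=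
    V.isOpen.inter (isOpen_biInter_finset fun n _ => (hlc n).isOpen_fiber _)
  refine ⟨⟨_, hfin⟩, ⟨hs, by simp⟩, fun a ha n => ?_⟩
  obtain ⟨haV, haG⟩ := ha
  obtain ⟨P, hP, hPn⟩ := hpoly a haV
  obtain ⟨Q, hQ, hQn⟩ := hpoly s hs
  have hPQ : P = Q := by
    rw [← sub_eq_zero]
    refine MvPolynomial.eq_zero_of_eval_zero_at_prod_finset _
      (fun _ => (Finset.range (N + 1)).image (Nat.cast : ℕ → ℚ)) (fun i => ?_) fun x hx => ?_
    · rw [Finset.card_image_of_injective _ Nat.cast_injective, Finset.card_range]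
      exact Nat.lt_succ_of_le ((MvPolynomial.degreeOf_le_totalDegree _ i).trans
        ((MvPolynomial.totalDegree_sub _ _).trans (max_le hP hQ)))
    · choose m hm hmx using fun i => Finset.mem_image.1 (hx i)
      obtain rfl : Snapper.castV m = x := funext hmx
      have hmG : m ∈ G := Fintype.mem_piFinset.2 hm
      rw [map_sub, ← hPn, ← hQn, show φ m a = φ m s from Set.mem_iInter₂.1 haG m hmG, sub_self]
  have h := hPn n
  rw [hPQ, ← hQn n] at h
  exact_mod_cast h

end Groth.Agent.IntProd70

namespace Groth.Agent.IntProd70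

variable {X S : Scheme.{u}}

/-- The structure sheaf is finitely presented. -/
theorem isFP_unit (X : Scheme.{u}) : CohB1.IsFP (Coh.structureModule X) := by
  haveI := ProjTwist.isQuasicoherent_structureModule X
  refine (Props.QFP.isFP_iff _).2 fun U _ => ?_
  exact inferInstanceAs (Module.FinitePresentation Γ(X, U) Γ(X, U))

/-- A flat morphism makes the structure sheaf flat over the base. -/
theorem isFlatOver_unit (f : X ⟶ S) [Flat f] : FlatMod.IsFlatOver f (Coh.structureModule X) := by
  haveI := ProjTwist.isQuasicoherent_structureModule X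
  intro x
  obtain ⟨V, hV, hxV, -⟩ := exists_isAffineOpen_mem_and_subset (U := (⊤ : S.Opens)) (x := f x) trivial
  obtain ⟨U, hU, hxU, hUV⟩ := exists_isAffineOpen_mem_and_subset (U := f ⁻¹ᵁ V) (x := x) hxV
  let e : U ≤ f ⁻¹ᵁ V := fun z hz => hUV hz
  refine FlatSect.isFlatOverAt_of_flat_sections f hV hU e _ ?_ x hxU
  exact f.flat_appLE hV hU e

end Groth.Agent.IntProd70
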