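import Groth.Agent.IntProd70.Rules
import Groth.Agent.HilbPolyX.Ample

/-!
# Positivity of intersection numbers of ample modules
-/

universe u

set_option autoImplicit false
set_option linter.style.haveILetI false

open CategoryTheory CategoryTheory.Limits AlgebraicGeometry TopologicalSpace
open Groth.Agent.PullStalk.Sky Groth.Agent.PullStalk.Exact

noncomputable section

namespace Groth.Agent.IntProd70

open ProjTwist Snapper

variable {X : Scheme.{u}} (k : Type u) [Field k] [X.Over (Spec (CommRingCat.of k))]
  [IsProper (X ↘ Spec (CommRingCat.of k))]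

/-- Powers in the first slot. -/
theorem intE_cons_pow {r : ℕ} {N : Fin r → X.Modules} (hN : ∀ i, PicF.IsInvertible (N i))
    {A : X.Modules} (hA : PicF.IsInvertible A) {G : X.Modules} (hG : Coh.IsCoh G)
    (hd : topologicalKrullDim ↥(CohB1.support G) ≤ ((r + 1 : ℕ) : WithBot ℕ∞)) :
    ∀ m : ℕ, intE k (Fin.cons (CohB1.tensorPow A m) N) G = m * intE k (Fin.cons A N) G := by
  intro m
  induction m with
  | zero => rw [Nat.cast_zero, zero_mul]; exact intE_cons_unit k hN hG
  | succ m ih =>
    show intE k (Fin.cons (CohB1.tensorMod (CohB1.tensorPow A m) A) N) G = _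
    rw [intE_add k hN (AmpleLib.isInvertible_tensorPow hA m) hA hG hd, ih]
    push_cast
    ring

theorem support_eq_empty_of_isZero {G : X.Modules} (h : IsZero G) : CohB1.support G = ∅ :=
  Set.eq_empty_of_forall_notMem fun x hx =>
    hx (AddCommGrpCat.subsingleton_of_isZero
      ((Scheme.Modules.toPresheaf X ⋙ TopCat.Presheaf.stalkFunctor AddCommGrpCat.{u} x).map_isZero h))

theorem not_isZero_of_dim {G : X.Modules} {d : ℕ}
    (hd : topologicalKrullDim ↥(CohB1.support G) = (d : WithBot ℕ∞)) : ¬ IsZero G := fun h => by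
  haveI : IsEmpty ↥(CohB1.support G) := Set.isEmpty_coe_sort.2 (support_eq_empty_of_isZero h)
  haveI : IsEmpty (IrreducibleCloseds ↥(CohB1.support G)) :=
    ⟨fun s => isEmptyElim s.isIrreducible.1.some⟩
  exact absurd (hd.symm.trans Order.krullDim_eq_bot) (by simp)

/-- Intersection numbers of ample modules on a support of that dimension are positive. -/
theorem intE_pos : ∀ {r : ℕ} {L M : Fin r → X.Modules}, (∀ i, CohB1.IsAmple (L i)) →
    (∀ i, Nonempty (CohB1.tensorMod (L i) (M i) ≅ Coh.structureModule X)) →
    ∀ {F : X.Modules}, Coh.IsCoh F → topologicalKrullDim ↥(CohB1.support F) = (r : WithBot ℕ∞) →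
      0 < intE k M F := by
  haveI := EulerChar.isNoetherian k (X := X)
  intro r
  induction r with
  | zero =>
    intro L M hL hLM F hF hd
    rw [intE_zero]
    refine lt_of_le_of_ne (EulerChar.euler_nonneg_of_support k hF hd.le) fun h => ?_
    exact not_isZero_of_dim hd (EulerChar.isZero_of_euler_eq_zero k hF hd.le h.symm)
  | succ r ih =>
    intro L M hL hLM
    have hM : ∀ i, PicF.IsInvertible (M i) := fun i => PicLaw.isInvertible_of_tensor_left (hL i).1
      (PicCl.isInvertible_of_iso (hLM i).some.symm (LFFrame.isInvertible_structureModule X))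
    have hN : ∀ i, PicF.IsInvertible (Fin.tail M i) := fun i => hM i.succ
    intro F hF
    refine CohDev.devissage (fun F => topologicalKrullDim ↥(CohB1.support F) = ((r + 1 : ℕ) : WithBot ℕ∞) →
      0 < intE k M F) (fun M' hM' hd => absurd hM' (not_isZero_of_dim hd))
      (fun S hS h₁ h₂ h₃ p₁ p₃ hd => ?_) (fun G hG hz => ?_) hF
    · haveI := hS.mono_f
      haveI := hS.epi_g
      have hu : CohB1.support S.X₂ = CohB1.support S.X₁ ∪ CohB1.support S.X₃ :=
        (CohDev.support_subset_union hS).antisymm (Set.union_subset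
          (CohDev.support_subset_of_mono S.f) (CohDev.support_subset_of_epi S.g))
      rw [hu, HilbPolyX.dim_union (CohDev.isClosed_support h₁) (CohDev.isClosed_support h₃)] at hd
      rw [← intK_kcl k hM h₂, CohDev.kcl_add hS h₁ h₂ h₃, map_add, intK_kcl k hM h₁, intK_kcl k hM h₃]
      have key : ∀ {G : X.Modules}, Coh.IsCoh G →
          (topologicalKrullDim ↥(CohB1.support G) = ((r + 1 : ℕ) : WithBot ℕ∞) → 0 < intE k M G) →
          topologicalKrullDim ↥(CohB1.support G) ≤ ((r + 1 : ℕ) : WithBot ℕ∞) → 0 ≤ intE k M G := by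
        intro G hG h hle
        rcases hle.eq_or_lt with h' | h'
        · exact (h h').le
        · exact (intE_eq_zero k hM hG h').ge
      rcases max_eq_iff.mp hd with ⟨ha, hb⟩ | ⟨ha, hb⟩
      · exact add_pos_of_pos_of_nonneg (p₁ ha) (key h₃ p₃ (hb.trans ha.le))
      · exact add_pos_of_nonneg_of_pos (key h₁ p₁ (hb.trans ha.le)) (p₃ ha)
    · obtain ⟨x, J, f, hf, hJ⟩ := CohDev.exists_isPiece hG hz
      have hJs := hJ.support_subset
      obtain ⟨g, hg, hJc, hxJ⟩ := hJ
      refine ⟨J, f, hf, hJc, fun h => hxJ (AddCommGrpCat.subsingleton_of_isZero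
        ((Scheme.Modules.toPresheaf X ⋙ TopCat.Presheaf.stalkFunctor AddCommGrpCat.{u} x).map_isZero h)),
        fun hd => ?_⟩
      have hsJ : CohB1.support J = closure {x} :=
        hJs.antisymm (closure_minimal (Set.singleton_subset_iff.mpr hxJ) (CohDev.isClosed_support hJc))
      have hdx : topologicalKrullDim ↥(closure ({x} : Set X)) = ((r + 1 : ℕ) : WithBot ℕ∞) := hsJ ▸ hd
      obtain ⟨y, hy, hyx, hdy⟩ := HilbPolyX.exists_point_dim hdx
      let O : X.Opens := ⟨(closure {y})ᶜ, isClosed_closure.isOpen_compl⟩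
      have hxO : x ∈ O := fun hxy => hyx (((specializes_iff_mem_closure.mpr hxy).antisymm
        (specializes_iff_mem_closure.mpr hy)).eq)
      obtain ⟨n, s, hxs, hsO, -⟩ := Props.AmpleBase.exists_affine_genLocus_le (hL 0) hxO
      have hys : y ∉ CohB1.genLocus _ s := fun h => hsO h (subset_closure rfl)
      have hT' : PicF.IsInvertible (CohB1.tensorPow (L 0) (n + 1)) :=
        AmpleLib.isInvertible_tensorPow (hL 0).1 _
      let φ := HilbPolyX.mulSec J s
      have hTc : Coh.IsCoh (CohDev.tens J (CohB1.tensorPow (L 0) (n + 1))) :=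
        CohDev.isCoh_of_iso (tensComm _ J) (isCoh_tensorMod k hT' hJc)
      haveI : Mono φ := by
        refine Preadditive.mono_of_isZero_kernel φ ?_
        by_contra hk
        obtain ⟨z, hz'⟩ := CohDev.exists_assoc (CohDev.isCoh_kernel' φ hJc hTc) hk
        have hzx : z = x := CohDev.eq_of_assoc_oz x
          (CohDev.assoc_of_mono g (CohDev.assoc_of_mono (kernel.ι φ) hz'))
        exact CohDev.not_mem_support_kernel φ (HilbPolyX.mulSec_bijective J s hxs).1
          (hzx ▸ CohDev.mem_support_of_assoc hz')
      let Q := cokernel φ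
      have hQc : Coh.IsCoh Q := CohDev.isCoh_cokernel φ hJc.1 hTc
      have hTs : CohB1.support (CohDev.tens J (CohB1.tensorPow (L 0) (n + 1))) ⊆ CohB1.support J :=
        HilbPolyX.support_tensorMod_subset J _
      have hQs : CohB1.support Q ⊆ closure {x} :=
        ((CohDev.support_subset_of_epi (cokernel.π φ)).trans hTs).trans hJs
      have hxQ : x ∉ CohB1.support Q :=
        CohDev.not_mem_support_cokernel φ (HilbPolyX.mulSec_bijective J s hxs).2
      have hS : (ShortComplex.mk φ (cokernel.π φ) (cokernel.condition φ)).ShortExact :=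
        { exact := ShortComplex.exact_of_g_is_cokernel _ (cokernelIsCokernel φ)
          mono_f := inferInstanceAs (Mono φ)
          epi_g := inferInstanceAs (Epi (cokernel.π φ)) }
      have hyQ : y ∈ CohB1.support Q := fun hsub => by
        exact HilbPolyX.mulSec_not_surjective J s hT' hJc hys (hsJ ▸ hy) fun t =>
          (((stalk_exact hS y).2.1) t).mp (@Subsingleton.elim _ hsub _ _)
      have hQd : topologicalKrullDim ↥(CohB1.support Q) = (r : WithBot ℕ∞) := by
        refine le_antisymm ?_ (hdy.ge.trans (CohDev.dim_mono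
          (closure_minimal (Set.singleton_subset_iff.mpr hyQ) (CohDev.isClosed_support hQc))))
        exact le_of_lt_succ (CohDev.dim_lt_of_irreducible (CohDev.isClosed_support hQc)
          isIrreducible_singleton.closure hQs (fun h => hxQ (h (subset_closure rfl))) hdx.le)
      have hpos := ih (L := Fin.tail L) (M := Fin.tail M) (fun i => hL i.succ) (fun i => hLM i.succ) hQc hQd
      have h1 := intE_cons_pow k hN (hL 0).1 hJc hd.le (n + 1)
      rw [intE_cons k hN hT' hJc, CohDev.kcl_iso (tensComm _ J) (isCoh_tensorMod k hT' hJc),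
        show CohDev.kcl (CohB1.tensorMod J (CohB1.tensorPow (L 0) (n + 1))) = CohDev.kcl J + CohDev.kcl Q from
          CohDev.kcl_add hS hJc hTc hQc, add_sub_cancel_left, intK_kcl k hN hQc,
        intE_cons_inverse k hN (hL 0).1 (hM 0) (hLM 0).some hJc hd.le, Fin.cons_self_tail] at h1
      push_cast at h1
      by_contra hneg
      push Not at hneg
      nlinarith

end Groth.Agent.IntProd70
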