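import Groth.Agent.Snapper.Basic
import Groth.Agent.EulerChar.Restrict
import Groth.Agent.EulerChar.Cartier
import Groth.Agent.ProjTwist.Tensor
import Groth.Prelude.Def_Curv2

/-!
# Intersection numbers as coefficients of Snapper polynomials

The coefficient of `n₁⋯n_d` in the polynomial computing `χ(F ⊗ L₁^{n₁} ⊗ ⋯ ⊗ L_d^{n_d})` is the
alternating sum `(-1)^d intE L F`.
-/

universe u

set_option autoImplicit false
set_option linter.style.haveILetI false

open CategoryTheory CategoryTheory.Limits AlgebraicGeometry MvPolynomial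

noncomputable section

namespace Groth.Agent.IntProd70

open ProjTwist Snapper

section Tensor

variable {X : Scheme.{u}}

theorem tensorList_concat : ∀ (l : List X.Modules) (A : X.Modules),
    Nonempty (FGA.tensorList (l ++ [A]) ≅ CohB1.tensorMod (FGA.tensorList l) A)
  | [], A => ⟨tensComm A _⟩
  | M :: l, A => by
    obtain ⟨e⟩ := tensorList_concat l A
    exact ⟨tensCongr (Iso.refl M) e ≪≫ (tensAssoc M (FGA.tensorList l) A).symm⟩

/-- The iterated tensor product is a multi-twist. -/
theorem tensorPows_iso (F : X.Modules) : ∀ (r : ℕ) (L : Fin r → X.Modules) (n : Fin r → ℕ),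
    Nonempty (Curv2.tensorPows F r L n ≅ CohB1.tensorMod (FGA.multiTwist L n) F)
  | 0, _, _ => ⟨(oneTens F).symm⟩
  | r + 1, L, n => by
    obtain ⟨e⟩ := tensorPows_iso F r (fun i => L i.castSucc) (fun i => n i.castSucc)
    obtain ⟨e'⟩ := tensorList_concat ((List.finRange r).map fun i =>
      CohB1.tensorPow (L i.castSucc) (n i.castSucc)) (CohB1.tensorPow (L (Fin.last r)) (n (Fin.last r)))
    have hm : FGA.multiTwist L n = FGA.tensorList (((List.finRange r).map fun i =>
        CohB1.tensorPow (L i.castSucc) (n i.castSucc)) ++ [CohB1.tensorPow (L (Fin.last r)) (n (Fin.last r))]) := by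
      rw [FGA.multiTwist, List.finRange_succ_last, List.map_append, List.map_map, List.map_singleton]
      rfl
    exact ⟨tensCongr e (Iso.refl _) ≪≫ tensAssoc _ F _ ≪≫ tensCongr (Iso.refl _) (tensComm F _) ≪≫
      (tensAssoc _ _ F).symm ≪≫ tensCongr (e'.symm ≪≫ eqToIso hm.symm) (Iso.refl F)⟩

theorem tensorList_indicator {ι : Type*} [DecidableEq ι] (L : ι → X.Modules) (I : Finset ι) :
    ∀ l : List ι, Nonempty (FGA.tensorList (l.map fun j => CohB1.tensorPow (L j) (if j ∈ I then 1 else 0)) ≅
      FGA.tensorList ((l.filter fun j => decide (j ∈ I)).map L))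
  | [] => ⟨Iso.refl _⟩
  | a :: l => by
    obtain ⟨e⟩ := tensorList_indicator L I l
    by_cases ha : a ∈ I
    · rw [List.map_cons, List.filter_cons_of_pos (by simpa using ha), List.map_cons, if_pos ha]
      exact ⟨tensCongr (oneTens (L a)) e⟩
    · rw [List.map_cons, List.filter_cons_of_neg (by simpa using ha), if_neg ha]
      exact ⟨oneTens _ ≪≫ e⟩

theorem multiTwist_indicator {r : ℕ} (L : Fin r → X.Modules) (I : Finset (Fin r)) :
    Nonempty (FGA.multiTwist L (fun j => if j ∈ I then 1 else 0) ≅
      FGA.tensorList ((I.sort (· ≤ ·)).map L)) := by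
  obtain ⟨e⟩ := tensorList_indicator L I (List.finRange r)
  have h : (List.finRange r).filter (fun j => decide (j ∈ I)) = I.sort (· ≤ ·) := by
    refine List.Perm.eq_of_pairwise' (r := (· ≤ ·)) (List.Pairwise.filter _ (List.pairwise_le_finRange r))
      (Finset.pairwise_sort _ _) ?_
    refine (List.perm_ext_iff_of_nodup ((List.nodup_finRange r).filter _) (Finset.sort_nodup _ _)).2 fun a => ?_
    simp
  exact ⟨e ≪≫ eqToIso (by rw [h])⟩

end Tensor

section Coef

/-- The exponent of `x₁⋯x_d`. -/
abbrev ones (d : ℕ) : Fin d →₀ ℕ := Finsupp.equivFunOnFinite.symm fun _ => 1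

/-- The coefficient of `x₁⋯x_d` by finite differences. -/
theorem coeff_ones {d : ℕ} (P : MvPolynomial (Fin d) ℚ) (hP : P.totalDegree ≤ d) :
    coeff (ones d) P =
      ∑ I : Finset (Fin d), (-1 : ℚ) ^ (d - I.card) *
        eval (castV fun j => if j ∈ I then 1 else 0) P := by
  classical
  have key : ∀ a : Fin d →₀ ℕ, (∑ I : Finset (Fin d), (-1 : ℚ) ^ (d - I.card) *
      ∏ j, (castV (fun i => if i ∈ I then (1 : ℕ) else 0) j) ^ a j) = if ∀ j, a j ≠ 0 then 1 else 0 := by
    intro a
    have h := Finset.prod_add (fun j : Fin d => (1 : ℚ)) (fun j => -((0 : ℚ) ^ a j)) Finset.univ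
    rw [Finset.powerset_univ] at h
    have h' : ∀ I : Finset (Fin d), (-1 : ℚ) ^ (d - I.card) *
        ∏ j, (castV (fun i => if i ∈ I then (1 : ℕ) else 0) j) ^ a j =
          (∏ j ∈ I, (1 : ℚ)) * ∏ j ∈ Finset.univ \ I, -((0 : ℚ) ^ a j) := by
      intro I
      rw [Finset.prod_neg, Finset.prod_const_one, one_mul, Finset.card_univ_diff, Fintype.card_fin]
      congr 1
      rw [← Finset.prod_sdiff (Finset.subset_univ I)]
      rw [show ∏ j ∈ I, (castV (fun i => if i ∈ I then (1 : ℕ) else 0) j) ^ a j = 1 from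
        Finset.prod_eq_one fun j hj => by simp [castV, hj], mul_one]
      refine Finset.prod_congr rfl fun j hj => ?_
      simp [castV, (Finset.mem_sdiff.1 hj).2]
    rw [Finset.sum_congr rfl fun I _ => h' I, ← h]
    split_ifs with hz
    · exact Finset.prod_eq_one fun j _ => by rw [zero_pow (hz j), neg_zero, add_zero]
    · push Not at hz
      obtain ⟨j, hj⟩ := hz
      exact Finset.prod_eq_zero (Finset.mem_univ j) (by rw [hj, pow_zero, add_neg_cancel])
  have hsum : ∑ I : Finset (Fin d), (-1 : ℚ) ^ (d - I.card) *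
      eval (castV fun j => if j ∈ I then 1 else 0) P =
        ∑ a ∈ P.support, coeff a P * (if ∀ j, a j ≠ 0 then 1 else 0) := by
    simp only [eval_eq', Finset.mul_sum]
    rw [Finset.sum_comm]
    refine Finset.sum_congr rfl fun a _ => ?_
    rw [← key a, Finset.mul_sum]
    exact Finset.sum_congr rfl fun I _ => by ring
  rw [hsum, Finset.sum_eq_single (ones d)]
  · rw [if_pos fun j => by simp, mul_one]
  · intro a ha hne
    rw [if_neg, mul_zero]
    intro hall
    refine hne (Finsupp.ext fun j => ?_)
    have hdeg : ∑ i, a i ≤ d := by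
      refine le_trans ?_ ((le_totalDegree ha).trans hP)
      rw [Finsupp.sum_fintype _ _ fun _ => rfl]
    have hj : a j ≤ 1 := by
      by_contra hlt
      have : ∑ _i : Fin d, 1 < ∑ i, a i :=
        Finset.sum_lt_sum (fun i _ => Nat.one_le_iff_ne_zero.2 (hall i)) ⟨j, Finset.mem_univ j, by omega⟩
      simp at this
      omega
    have := hall j
    simp
    omega
  · intro h
    rw [notMem_support_iff.1 h, zero_mul]

/-- Polynomials agreeing at natural points are equal. -/
theorem poly_ext {d : ℕ} {P Q : MvPolynomial (Fin d) ℚ}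
    (h : ∀ n : Fin d → ℕ, eval (castV n) P = eval (castV n) Q) : P = Q := by
  refine funext_set (fun _ => Set.range (Nat.cast : ℕ → ℚ))
    (fun _ => Set.infinite_range_of_injective Nat.cast_injective) fun x hx => ?_
  choose n hn using fun i => hx i trivial
  obtain rfl : castV n = x := funext hn
  exact h n

end Coef

section Main

variable {X : Scheme.{u}} (k : Type u) [Field k] [X.Over (Spec (CommRingCat.of k))]
  [IsProper (X ↘ Spec (CommRingCat.of k))]

/-- The intersection number `(L₁⋯L_d · F)`. -/
def intC {d : ℕ} (L : Fin d → X.Modules) (F : X.Modules) : ℤ := (-1) ^ d * intE k L F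

/-- The coefficient of `n₁⋯n_d` is the intersection number. -/
theorem coeff_eq {d : ℕ} {L : Fin d → X.Modules} (hL : ∀ i, PicF.IsInvertible (L i)) {F : X.Modules}
    (hF : Coh.IsCoh F) (hd : topologicalKrullDim ↥(CohB1.support F) ≤ (d : WithBot ℕ∞))
    {P : MvPolynomial (Fin d) ℚ}
    (hP : ∀ n : Fin d → ℕ, (Curv2.euler k X (Curv2.tensorPows F d L n) : ℚ) = eval (fun i => (n i : ℚ)) P) :
    coeff (ones d) P = (intC k L F : ℚ) := by
  obtain ⟨Q, hQd, hQ⟩ := exists_snapper k hL d hF hd
  have hPQ : P = Q := poly_ext fun n => by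
    rw [← hQ n]
    exact (hP n).symm.trans (congrArg _ (EulerChar.euler_iso k (tensorPows_iso F d L n).some))
  rw [hPQ, coeff_ones Q hQd, intC, intE]
  push_cast
  rw [Finset.mul_sum]
  refine Finset.sum_congr rfl fun I _ => ?_
  rw [← hQ, EulerChar.euler_iso k (tensCongr (multiTwist_indicator L I).some (Iso.refl F)), ← mul_assoc, ← pow_add]
  congr 1
  have h := Finset.card_le_univ I
  rw [Fintype.card_fin] at h
  rw [show d + I.card = (d - I.card) + 2 * I.card by omega, pow_add, pow_mul]
  simp

/-- The structure sheaf of a closed subscheme has support inside its support. -/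
theorem dim_support_quotMod_le (D : X.IdealSheafData) :
    topologicalKrullDim ↥(CohB1.support (ClSub.quotMod D)) ≤ topologicalKrullDim ↥(D.support : Set X) :=
  CohDev.dim_mono (EulerChar.support_quotMod_subset D)

theorem coeff_quotMod {d : ℕ} {L : Fin d → X.Modules} (hL : ∀ i, PicF.IsInvertible (L i))
    (D : X.IdealSheafData) (hD : topologicalKrullDim ↥(D.support : Set X) ≤ (d : WithBot ℕ∞))
    {P : MvPolynomial (Fin d) ℚ}
    (hP : ∀ n : Fin d → ℕ, (Curv2.euler k X (Curv2.tensorPows (ClSub.quotMod D) d L n) : ℚ) = eval (fun i => (n i : ℚ)) P) :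
    coeff (ones d) P = (intC k L (ClSub.quotMod D) : ℚ) :=
  coeff_eq k hL (EulerChar.isCoh_quotMod k D) ((dim_support_quotMod_le D).trans hD) hP

end Main

end Groth.Agent.IntProd70
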