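import Groth.Agent.IntProd70.Push
import Groth.Agent.CycLib.NormMap
import Groth.Agent.CycLib.MapLib

/-!
# Intersection numbers and degrees of dominant morphisms
-/

universe u

set_option autoImplicit false
set_option linter.style.haveILetI false

open CategoryTheory CategoryTheory.Limits AlgebraicGeometry TopologicalSpace Opposite
open Groth.Agent.PullStalk.Sky Groth.Agent.PullStalk.Exact

noncomputable section

namespace Groth.Agent.IntProd70

open ProjTwist Snapper EulerChar

section Stalk

variable {X Y : Scheme.{u}} (f : X ⟶ Y) [IsIntegral X] [IsIntegral Y] [UniversallyClosed f]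

theorem bijective_pushGerm' (huniq : ∀ x : X, f x = f (genericPoint X) → x = genericPoint X) :
    Function.Bijective (pushGerm f) := by
  constructor
  · refine (injective_iff_map_eq_zero _).2 fun t ht => ?_
    obtain ⟨W, hW, s, rfl⟩ := exists_germM_eq _ _ t
    rw [pushGerm_germ] at ht
    rw [show s = 0 from eq_zero_of_germ_generic (ProjTwist.isFinLocFreeOfRank_one
      (PicLoc.isInvertible_structureModule X)) (U := f ⁻¹ᵁ W) hW s ht]
    exact map_zero _
  · intro c
    obtain ⟨N, hN, s, rfl⟩ := exists_germM_eq (Coh.structureModule X) (genericPoint X) c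
    let W : Y.Opens := ⟨(f '' (N : Set X)ᶜ)ᶜ, (f.isClosedMap _ N.2.isClosed_compl).isOpen_compl⟩
    have hW : f (genericPoint X) ∈ W := fun ⟨x, hx, he⟩ => hx (huniq x he ▸ hN)
    have hle : f ⁻¹ᵁ W ≤ N := fun x hx => by_contra fun h => hx ⟨x, h, rfl⟩
    refine ⟨germM _ W _ hW ((Coh.structureModule X).presheaf.map (homOfLE hle).op s), ?_⟩
    refine (pushGerm_germ f W hW _).trans ?_
    exact (Coh.structureModule X).presheaf.germ_res_apply (homOfLE hle) _ _ s

/-- The rank of the pushed structure module is the residue degree. -/
theorem finrank_stalk_push' (huniq : ∀ x : X, f x = f (genericPoint X) → x = genericPoint X)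
    (hgen : f (genericPoint X) = genericPoint Y) :
    Module.finrank (Y.presheaf.stalk (f (genericPoint X)))
      (((Scheme.Modules.pushforward f).obj (Coh.structureModule X)).presheaf.stalk (f (genericPoint X))) =
      f.residueDegree (genericPoint X) := by
  obtain ⟨eO⟩ := stalk_ofRank (ProjTwist.isFinLocFreeOfRank_one (PicLoc.isInvertible_structureModule X))
    (genericPoint X)
  letI := (f.stalkMap (genericPoint X)).hom.toAlgebra
  letI := Module.compHom ((Coh.structureModule X).presheaf.stalk (genericPoint X)) (f.stalkMap (genericPoint X)).hom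
  haveI : IsScalarTower (Y.presheaf.stalk (f (genericPoint X))) (X.presheaf.stalk (genericPoint X))
      ((Coh.structureModule X).presheaf.stalk (genericPoint X)) :=
    ⟨fun r s m => mul_smul ((f.stalkMap (genericPoint X)).hom r) s m⟩
  let e : ((Scheme.Modules.pushforward f).obj (Coh.structureModule X)).presheaf.stalk (f (genericPoint X)) ≃ₗ[Y.presheaf.stalk (f (genericPoint X))]
      (Coh.structureModule X).presheaf.stalk (genericPoint X) :=
    LinearEquiv.ofBijective
      ({ toFun := pushGerm f
         map_add' := map_add _
         map_smul' := pushGerm_smul f } :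
        ((Scheme.Modules.pushforward f).obj (Coh.structureModule X)).presheaf.stalk (f (genericPoint X))
          →ₗ[Y.presheaf.stalk (f (genericPoint X))]
          (Coh.structureModule X).presheaf.stalk (genericPoint X)) (bijective_pushGerm' f huniq)
  rw [e.finrank_eq, ← (((LinearEquiv.funUnique (Fin 1) (X.presheaf.stalk (genericPoint X))
    (X.presheaf.stalk (genericPoint X))).symm.trans eO).restrictScalars
      (Y.presheaf.stalk (f (genericPoint X)))).finrank_eq, Scheme.Hom.residueDegree]
  letI := (f.residueFieldMap (genericPoint X)).hom.toAlgebra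
  have hY' : IsField (Y.presheaf.stalk (f (genericPoint X))) := by
    rw [hgen]
    exact Field.toIsField Y.functionField
  have hX' : IsField (X.presheaf.stalk (genericPoint X)) := Field.toIsField X.functionField
  have b : ∀ {Z : Scheme.{u}} (z : Z), IsField (Z.presheaf.stalk z) → Function.Bijective (Z.residue z) :=
    fun {Z} z h => by
      refine ⟨(injective_iff_map_eq_zero _).2 fun a ha => ?_, Z.residue_surjective z⟩
      have : a ∈ IsLocalRing.maximalIdeal (Z.presheaf.stalk z) := Ideal.Quotient.eq_zero_iff_mem.1 ha
      rwa [IsLocalRing.isField_iff_maximalIdeal_eq.1 h, Ideal.mem_bot] at this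
  refine Algebra.finrank_eq_of_equiv_equiv (RingEquiv.ofBijective (Y.residue _).hom (b _ hY'))
    (RingEquiv.ofBijective (X.residue _).hom (b _ hX')) ?_
  refine RingHom.ext fun a => ?_
  exact ConcreteCategory.congr_hom (Scheme.residue_residueFieldMap f (genericPoint X)) a

end Stalk

theorem toNat_length_of_isField {R M : Type*} [CommRing R] [AddCommGroup M] [Module R M] (h : IsField R) :
    (Module.length R M).toNat = Module.finrank R M := by
  letI := h.toField
  rw [Module.length_eq_rank]
  exact Cardinal.toNat_toENat _

section Degree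

variable (k : Type u) [Field k] {Z W : Scheme.{u}} [Z.Over (Spec (CommRingCat.of k))]
  [W.Over (Spec (CommRingCat.of k))] [IsProper (Z ↘ Spec (CommRingCat.of k))]
  [IsProper (W ↘ Spec (CommRingCat.of k))]

theorem len_structureModule_toNat [IsIntegral W] :
    (len (Coh.structureModule W) (genericPoint W)).toNat = 1 := by
  obtain ⟨eO⟩ := stalk_ofRank (ProjTwist.isFinLocFreeOfRank_one (PicLoc.isInvertible_structureModule W))
    (genericPoint W)
  have hF : IsField (W.presheaf.stalk (genericPoint W)) := Field.toIsField W.functionField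
  rw [toNat_length_of_isField hF, ← eO.finrank_eq, Module.finrank_fin_fun]

include k in
/-- On a variety the intersection number is the generic rank times the one of the structure module. -/
theorem intE_generic [IsIntegral W] {d : ℕ} (hW : topologicalKrullDim W = (d : WithBot ℕ∞))
    {M : Fin d → W.Modules} (hM : ∀ i, PicF.IsInvertible (M i)) {G : W.Modules} (hG : Coh.IsCoh G) :
    intE k M G = ((len G (genericPoint W)).toNat : ℤ) * intE k M (Coh.structureModule W) := by
  classical
  have hd : topologicalKrullDim ↥(Set.univ : Set W) = (d : WithBot ℕ∞) :=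
    (IsHomeomorph.topologicalKrullDim_eq _ (Homeomorph.Set.univ W).isHomeomorph).trans hW
  have hη : topologicalKrullDim ↥(closure ({genericPoint W} : Set W)) = (d : WithBot ℕ∞) := by
    rw [(genericPoint_spec W).def]; exact hd
  have hs : ∀ ξ, ξ ∈ ({genericPoint W} : Finset W) ↔
      ξ ∈ (Set.univ : Set W) ∧ topologicalKrullDim ↥(closure ({ξ} : Set W)) = (d : WithBot ℕ∞) := by
    intro ξ
    refine ⟨fun h => ?_, fun h => Finset.mem_singleton.2
      (eq_of_top isClosed_univ hd.le h.2 (Set.mem_univ _) (genericPoint_specializes ξ))⟩
    rw [Finset.mem_singleton.1 h]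
    exact ⟨trivial, hη⟩
  rw [intE_components k hM isClosed_univ hd.le _ hs hG (Set.subset_univ _),
    intE_components k hM isClosed_univ hd.le _ hs (ProperFin.isCoh_structureModule W) (Set.subset_univ _),
    Finset.sum_singleton, Finset.sum_singleton, len_structureModule_toNat, Nat.cast_one, one_mul]

/-- Intersection numbers along a dominant morphism of varieties. -/
theorem intE_dominant [IsIntegral Z] [IsIntegral W] (g : Z ⟶ W)
    (w : g ≫ (W ↘ Spec (CommRingCat.of k)) = Z ↘ Spec (CommRingCat.of k))
    (hgen : g (genericPoint Z) = genericPoint W) {d : ℕ}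
    (hZ : topologicalKrullDim Z ≤ (d : WithBot ℕ∞)) (hW : topologicalKrullDim W ≤ (d : WithBot ℕ∞))
    {M : Fin d → W.Modules} (hM : ∀ i, PicF.IsInvertible (M i)) :
    intE k (fun i => (Scheme.Modules.pullback g).obj (M i)) (Coh.structureModule Z) =
      (g.residueDegree (genericPoint Z) : ℤ) * intE k M (Coh.structureModule W) := by
  haveI : IsProper g := EulerChar.isProper_hom g w
  haveI := EulerChar.isLocallyNoetherian k (X := W)
  have hO : Coh.IsCoh (Coh.structureModule Z) := ProperFin.isCoh_structureModule _
  have hpO : Coh.IsCoh ((Scheme.Modules.pushforward g).obj (Coh.structureModule Z)) :=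
    CohDev.isCoh_of_iso ((Scheme.Modules.pushforward g).rightDerivedZeroIsoSelf.app _)
      (Groth.Agent.S0036.result g _ hO 0)
  rw [intE_pullback g w hM hO (EulerChar.dim_support_le hZ)]
  rcases hW.lt_or_eq with hlt | heq
  · rw [intE_eq_zero k hM hpO (lt_of_le_of_lt (EulerChar.dim_support_le le_rfl) hlt),
      intE_eq_zero k hM (ProperFin.isCoh_structureModule W)
        (lt_of_le_of_lt (EulerChar.dim_support_le le_rfl) hlt), mul_zero]
  rw [intE_generic k heq hM hpO]
  congr 2
  have hdW : VarDim.dimPt k W (genericPoint W) = d := by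
    have h := FibBound.topDim_closure_singleton k (genericPoint W)
    rw [(genericPoint_spec W).def,
      IsHomeomorph.topologicalKrullDim_eq _ (Homeomorph.Set.univ W).isHomeomorph, heq] at h
    exact_mod_cast h.symm
  have hle : ∀ x : Z, VarDim.dimPt k Z x ≤ d := fun x => by
    have h := (LangWeil.dimPt_le_dim k isClosed_univ (Set.mem_univ x)).trans
      ((IsHomeomorph.topologicalKrullDim_eq _ (Homeomorph.Set.univ Z).isHomeomorph).le.trans hZ)
    exact_mod_cast h
  have huniq : ∀ x : Z, g x = g (genericPoint Z) → x = genericPoint Z := by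
    intro x hx
    by_contra hne
    obtain ⟨e, -, he⟩ := FibBound.dimPt_eq_add g k w x
    rw [hx, hgen, hdW] at he
    have hlt : VarDim.dimPt k Z x < VarDim.dimPt k Z (genericPoint Z) :=
      VarDim.strictMono_dimPt k (lt_iff_le_not_ge.2
        ⟨genericPoint_specializes x, fun h => hne (Specializes.antisymm h (genericPoint_specializes x)).eq⟩)
    have := hle (genericPoint Z)
    omega
  have hF : IsField (W.presheaf.stalk (g (genericPoint Z))) := by
    rw [hgen]; exact Field.toIsField W.functionField
  rw [← hgen, len, toNat_length_of_isField hF]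
  exact finrank_stalk_push' g huniq hgen

end Degree

section Closed

variable (k : Type u) [Field k] {X : Scheme.{u}} [X.Over (Spec (CommRingCat.of k))]
  [IsProper (X ↘ Spec (CommRingCat.of k))]

/-- Intersection numbers against a closed subscheme live on it. -/
theorem intE_quotMod (D : X.IdealSheafData) [D.subscheme.Over (Spec (CommRingCat.of k))]
    [IsProper (D.subscheme ↘ Spec (CommRingCat.of k))]
    (w : D.subschemeι ≫ (X ↘ Spec (CommRingCat.of k)) = D.subscheme ↘ Spec (CommRingCat.of k))
    {d : ℕ} (hd : topologicalKrullDim D.subscheme ≤ (d : WithBot ℕ∞))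
    {L : Fin d → X.Modules} (hL : ∀ i, PicF.IsInvertible (L i)) :
    intE k L (ClSub.quotMod D) =
      intE k (fun i => (Scheme.Modules.pullback D.subschemeι).obj (L i)) (Coh.structureModule D.subscheme) :=
  (intE_pullback D.subschemeι w hL (ProperFin.isCoh_structureModule _)
    (EulerChar.dim_support_le hd)).symm

end Closed

theorem intE_congr {X : Scheme.{u}} (k : Type u) [Field k] [X.Over (Spec (CommRingCat.of k))]
    [IsProper (X ↘ Spec (CommRingCat.of k))] {r : ℕ} {A B : Fin r → X.Modules}
    (e : ∀ i, Nonempty (A i ≅ B i)) (G : X.Modules) :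
    intE k A G = intE k B G := by
  refine Finset.sum_congr rfl fun I _ => ?_
  congr 1
  have : ∀ l : List (Fin r), Nonempty (FGA.tensorList (l.map A) ≅ FGA.tensorList (l.map B)) := by
    intro l
    induction l with
    | nil => exact ⟨Iso.refl _⟩
    | cons a l ih => exact ⟨tensCongr (e a).some ih.some⟩
  exact EulerChar.euler_iso k (tensCongr (this _).some (Iso.refl G))

end Groth.Agent.IntProd70
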