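import Groth.Agent.IntProd70.Sections
import Groth.Agent.IntProd70.Degree
import Groth.Agent.IntProd70.Positive
import Groth.Agent.AmpCrit.TwistDev
import Groth.Agent.RedSub.Basic
import Groth.Agent.S11559

/-!
# The criterion of Nakai and Moishezon
-/

universe u

set_option autoImplicit false
set_option linter.style.haveILetI false

open CategoryTheory CategoryTheory.Limits AlgebraicGeometry TopologicalSpace Opposite

noncomputable section

namespace Groth.Agent.IntProd70

open ProjTwist Snapper

/-- Inverses change the sign by the number of factors. -/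
theorem intE_inverse {X : Scheme.{u}} (k : Type u) [Field k] [X.Over (Spec (CommRingCat.of k))]
    [IsProper (X ↘ Spec (CommRingCat.of k))] : ∀ {r : ℕ} {L M : Fin r → X.Modules},
    (∀ i, PicF.IsInvertible (L i)) → (∀ i, PicF.IsInvertible (M i)) →
    (∀ i, Nonempty (CohB1.tensorMod (L i) (M i) ≅ Coh.structureModule X)) →
    ∀ {G : X.Modules}, Coh.IsCoh G → topologicalKrullDim ↥(CohB1.support G) ≤ (r : WithBot ℕ∞) →
      intE k L G = (-1) ^ r * intE k M G := by
  haveI := EulerChar.isNoetherian k (X := X)
  intro r
  induction r with
  | zero => intro L M _ _ _ G _ _; rw [intE_zero, intE_zero, pow_zero, one_mul]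
  | succ r ih =>
    intro L M hL hM hLM G hG hd
    rw [← Fin.cons_self_tail L, ← Fin.cons_self_tail M]
    have hL' : ∀ i, PicF.IsInvertible (Fin.tail L i) := fun i => hL i.succ
    have hM' : ∀ i, PicF.IsInvertible (Fin.tail M i) := fun i => hM i.succ
    rw [intE_cons_inverse k hL' (hL 0) (hM 0) (hLM 0).some hG hd, intE_cons k hL' (hM 0) hG,
      intE_cons k hM' (hM 0) hG]
    have key : ∀ c ∈ smallK X ((r + 1 : ℕ) : WithBot ℕ∞), intK k hL' c = (-1) ^ r * intK k hM' c := by
      intro c hc
      induction hc using AddSubgroup.closure_induction with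
      | mem x hx =>
        obtain ⟨G', hG', hd', rfl⟩ := hx
        rw [intK_kcl k hL' hG', intK_kcl k hM' hG',
          ih hL' hM' (fun i => hLM i.succ) hG' (le_of_lt_succ hd')]
      | zero => simp
      | add x y _ _ hx hy => rw [map_add, map_add, hx, hy, mul_add]
      | neg x _ hx => rw [map_neg, map_neg, hx, mul_neg]
    rw [key _ (kcl_tens_sub_small k (hM 0) hG hd), pow_succ]
    ring

/-- The pullback along a closed immersion of an integral scheme only depends on the generic point. -/
theorem isAmple_pullback_of_gen {X T : Scheme.{u}} [IsIntegral T] (j : T ⟶ X) [IsClosedImmersion j]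
    {L : X.Modules}
    (h : CohB1.IsAmple ((Scheme.Modules.pullback (IntMult.ptIdeal (j (genericPoint T))).subschemeι).obj L)) :
    CohB1.IsAmple ((Scheme.Modules.pullback j).obj L) := by
  obtain ⟨g, hg⟩ := RedSub.exists_lift_closed (IntMult.ptIdeal (j (genericPoint T))).subschemeι j (by
    rw [Scheme.IdealSheafData.range_subschemeι, CohDev.coe_support_ptIdeal]
    rintro _ ⟨t, rfl⟩
    exact specializes_iff_mem_closure.1 ((genericPoint_specializes t).map j.continuous))
  haveI : IsClosedImmersion (g ≫ (IntMult.ptIdeal (j (genericPoint T))).subschemeι) := by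
    rw [hg]; infer_instance
  haveI : IsClosedImmersion g := IsClosedImmersion.of_comp g (IntMult.ptIdeal (j (genericPoint T))).subschemeι
  exact AmpleLib.isAmple_of_iso ((Scheme.Modules.pullbackComp _ _).app L ≪≫
      (Scheme.Modules.pullbackCongr hg).app L)
    (AmpleLib.isAmple_pullback_of_qaMor g (AmpCrit.TwistDev.qaMor_of_isAffineHom g) h)

variable (k : Type u) [Field k]

/-- An integral proper scheme of dimension at least two where `L` is ample on all smaller pieces. -/
theorem isAmple_of_intC_pos {X : Scheme.{u}} [IsIntegral X] [X.Over (Spec (CommRingCat.of k))]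
    [IsProper (X ↘ Spec (CommRingCat.of k))] {L : X.Modules} (hL : PicF.IsInvertible L) {d : ℕ}
    (hd2 : 2 ≤ d) (hd : topologicalKrullDim X = (d : WithBot ℕ∞))
    (hpos : 0 < intC k (fun _ : Fin d => L) (Coh.structureModule X))
    (hsub : ∀ x : X, x ≠ genericPoint X →
      CohB1.IsAmple ((Scheme.Modules.pullback (IntMult.ptIdeal x).subschemeι).obj L)) :
    CohB1.IsAmple L := by
  obtain ⟨m, s, hs⟩ := exists_nonzero_section k hL hsub (show 0 < d by omega) hd.le hpos
  have hQ : PicF.IsInvertible (CohB1.tensorPow L (m + 1)) := AmpleLib.isInvertible_tensorPow hL _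
  have hsubQ : ∀ x : X, x ≠ genericPoint X → CohB1.IsAmple
      ((Scheme.Modules.pullback (IntMult.ptIdeal x).subschemeι).obj (CohB1.tensorPow L (m + 1))) :=
    fun x hx => AmpleLib.isAmple_of_iso (AmpCrit.TwistDev.pullPowIso _ L (m + 1)).symm
      ((Props.AmpleFrames.isAmple_tensorPow_iff (hsub x hx).1 (Nat.succ_pos m)).1 (hsub x hx))
  refine (Props.AmpleFrames.isAmple_tensorPow_iff hL (Nat.succ_pos m)).2
    (isAmple_of_loci_of_curves k hQ (fun x hx => exists_pow_genLocus' k hQ hsubQ s hs hx) ?_)
  intro C hC hC1
  haveI := hC
  refine isAmple_pullback_of_gen C.subschemeι (hsubQ _ fun hη => ?_)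
  have h1 : topologicalKrullDim X ≤ 1 := by
    rw [← IsHomeomorph.topologicalKrullDim_eq _ (Homeomorph.Set.univ X).isHomeomorph, ← hC1]
    refine CohDev.dim_mono ?_
    rw [← (genericPoint_spec X).def, ← hη]
    refine closure_minimal ?_ C.support.isClosed
    rw [← C.range_subschemeι, Set.singleton_subset_iff]
    exact ⟨_, rfl⟩
  rw [hd] at h1
  have : d ≤ 1 := by exact_mod_cast h1
  omega

/-- The criterion of Nakai and Moishezon. -/
theorem isAmple_of_forall_intC_pos {X : Scheme.{u}} [X.Over (Spec (CommRingCat.of k))]
    [IsProper (X ↘ Spec (CommRingCat.of k))] {L : X.Modules} (hL : PicF.IsInvertible L)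
    (hpos : ∀ (x : X) (d : ℕ), 0 < d → VarDim.dimPt k X x = d →
      0 < intC k (fun _ : Fin d => L) (ClSub.quotMod (IntMult.ptIdeal x))) :
    CohB1.IsAmple L := by
  suffices key : ∀ (d : ℕ) (x : X), VarDim.dimPt k X x = d →
      CohB1.IsAmple ((Scheme.Modules.pullback (IntMult.ptIdeal x).subschemeι).obj L) by
    refine (S11559.result k X L hL).2 fun Z hZ => ?_
    haveI : IsIntegral (Scheme.IdealSheafData.vanishingIdeal Z).subscheme :=
      S16188.isIntegral_subscheme _ hZ.1
    exact isAmple_pullback_of_gen _ (key _ _ rfl)
  intro d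
  induction d using Nat.strong_induction_on with
  | _ d ih =>
    intro x hx
    let D := IntMult.ptIdeal x
    haveI : IsIntegral D.subscheme := S16188.isIntegral_subscheme _ isIrreducible_singleton.closure
    letI : D.subscheme.Over (Spec (CommRingCat.of k)) := ⟨D.subschemeι ≫ (X ↘ Spec (CommRingCat.of k))⟩
    haveI : IsProper (D.subscheme ↘ Spec (CommRingCat.of k)) :=
      inferInstanceAs (IsProper (D.subschemeι ≫ (X ↘ Spec (CommRingCat.of k))))
    have hdim : topologicalKrullDim D.subscheme = (d : WithBot ℕ∞) := by
      rw [IsHomeomorph.topologicalKrullDim_eq _ (D.subschemeι.isEmbedding.toHomeomorph.trans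
        (Homeomorph.setCongr D.range_subschemeι)).isHomeomorph]
      show topologicalKrullDim ↥(D.support : Set X) = _
      rw [CohDev.coe_support_ptIdeal, FibBound.topDim_closure_singleton k x, hx]
    let L' := (Scheme.Modules.pullback D.subschemeι).obj L
    have hL' : PicF.IsInvertible L' := PicCl.isInvertible_pullback _ hL
    rcases Nat.eq_zero_or_pos d with rfl | hd0
    · refine isAmple_of_loci_of_curves k hL' (fun z hz => ?_) (fun C hC hC1 => ?_)
      · obtain ⟨U, e, hzU, he⟩ := Props.GenLocus.exists_isGen (AmpleLib.isInvertible_tensorPow hL' 1) z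
        have hU : U = ⊤ := by
          refine top_le_iff.1 fun w _ => ?_
          have hzη : z = genericPoint D.subscheme := by
            by_contra hne
            have h1 := CohDev.dim_closure_lt
              (specializes_iff_mem_closure.1 (genericPoint_specializes z)) hne
              (n := 0) (le_of_eq (by rw [(genericPoint_spec D.subscheme).def,
                IsHomeomorph.topologicalKrullDim_eq _ (Homeomorph.Set.univ _).isHomeomorph, hdim]))
            rw [FibBound.topDim_closure_singleton k z] at h1
            exact Nat.not_lt_zero (VarDim.dimPt k D.subscheme z) (by exact_mod_cast h1)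
          have hwz : w = z := by
            have hcl : closure ({z} : Set D.subscheme) = Set.univ := by
              rw [hzη]; exact (genericPoint_spec _).def
            rw [hz.closure_eq] at hcl
            exact hcl.ge (Set.mem_univ w)
          rw [hwz]; exact hzU
        subst hU
        exact ⟨0, Props.GenLocus.homOfSec e, by
          rw [AmpleLib.genLocus_homOfSec, show AmpleLib.locus e = ⊤ from top_le_iff.1 fun w _ =>
            (AmpleLib.mem_locus_iff e w).2 ⟨⊤, le_rfl, trivial, by rwa [QCoh.res_self]⟩]
          trivial⟩
      · exfalso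
        have h1 : topologicalKrullDim ↥(C.support : Set D.subscheme) ≤ ((0 : ℕ) : WithBot ℕ∞) := by
          rw [← hdim]
          exact topologicalKrullDim_subspace_le _ _
        rw [hC1] at h1
        have : (1 : ℕ) ≤ 0 := by exact_mod_cast h1
        omega
    have hP := hpos x d hd0 hx
    rcases Nat.lt_or_ge d 2 with hlt | hge
    · obtain rfl : d = 1 := by omega
      rw [intC_one k D hL] at hP
      exact EulerChar.isAmple_of_deg_pos k hdim hL' hP
    · rw [intC, intE_quotMod k D rfl hdim.le (fun _ => hL), ← intC] at hP
      refine isAmple_of_intC_pos k hL' hge hdim hP fun y hy => ?_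
      haveI : IsIntegral (IntMult.ptIdeal y).subscheme :=
        S16188.isIntegral_subscheme _ isIrreducible_singleton.closure
      refine AmpleLib.isAmple_of_iso ((Scheme.Modules.pullbackComp _ _).app L).symm
        (isAmple_pullback_of_gen _ (ih _ ?_ _ rfl))
      let z := ((IntMult.ptIdeal y).subschemeι ≫ D.subschemeι) (genericPoint (IntMult.ptIdeal y).subscheme)
      let w := (IntMult.ptIdeal y).subschemeι (genericPoint (IntMult.ptIdeal y).subscheme)
      have hxη : D.subschemeι (genericPoint D.subscheme) = x := by
        refine IsGenericPoint.eq ((genericPoint_spec D.subscheme).image D.subschemeι.continuous) ?_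
        show closure ({x} : Set X) = _
        rw [Set.image_univ, D.range_subschemeι, (D.support.isClosed).closure_eq]
        exact (CohDev.coe_support_ptIdeal x).symm
      have hwy : w = y := by
        refine IsGenericPoint.eq ((genericPoint_spec _).image (IntMult.ptIdeal y).subschemeι.continuous) ?_
        show closure ({y} : Set D.subscheme) = _
        rw [Set.image_univ, (IntMult.ptIdeal y).range_subschemeι,
          ((IntMult.ptIdeal y).support.isClosed).closure_eq]
        exact (CohDev.coe_support_ptIdeal y).symm
      show VarDim.dimPt k X z < d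
      rw [← hx]
      refine VarDim.strictMono_dimPt k (lt_iff_le_not_ge.2 ⟨?_, fun h => hy ?_⟩)
      · show x ⤳ z
        rw [← hxη]
        exact (genericPoint_specializes w).map D.subschemeι.continuous
      · have h' : z ⤳ D.subschemeι (genericPoint D.subscheme) := hxη.symm ▸ h
        have h2 : w ⤳ genericPoint D.subscheme :=
          D.subschemeι.isEmbedding.isInducing.specializes_iff.1 h'
        rw [← hwy]
        exact ((genericPoint_specializes w).antisymm h2).eq.symm

end Groth.Agent.IntProd70
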