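import Groth.Agent.IntProd70.Basic
import Groth.Agent.EulerChar.Components
import Groth.Agent.Snapper.Binom
import Groth.Agent.CohDev.Gen
import Groth.Agent.IdealSh.Regular
import Groth.Agent.PicLaw.Swap
import Groth.Prelude.Def_FGA

/-!
# Rules for intersection numbers

Divisors, components, degree in dimension one.
-/

universe u

set_option autoImplicit false
set_option linter.style.haveILetI false

open CategoryTheory CategoryTheory.Limits AlgebraicGeometry TopologicalSpace
open Groth.Agent.PullStalk.Sky Groth.Agent.PullStalk.Exact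

noncomputable section

namespace Groth.Agent.IntProd70

open ProjTwist Snapper

variable {X : Scheme.{u}}

/-- A closed set without maximal points has smaller dimension. -/
theorem dim_le_of_no_maximal {T : Set X} (hT : IsClosed T)
    (hmax : ∀ x ∈ T, ∃ w : X, w ⤳ x ∧ w ≠ x ∧ w ∉ T) {e : ℕ}
    (hX : topologicalKrullDim X ≤ ((e + 1 : ℕ) : WithBot ℕ∞)) :
    topologicalKrullDim ↥T ≤ (e : WithBot ℕ∞) := by
  refine iSup_le fun l => ?_
  let l' : LTSeries (IrreducibleCloseds X) :=
    l.map _ (IrreducibleCloseds.map_strictMono_of_isInducing Topology.IsInducing.subtypeVal)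
  have hsub : (l'.last : Set X) ⊆ T := by
    show closure ((Subtype.val : ↥T → X) '' (l.last : Set ↥T)) ⊆ T
    refine closure_minimal ?_ hT
    rintro _ ⟨z, -, rfl⟩
    exact z.2
  have hgen : closure {l'.last.isIrreducible.genericPoint} = (l'.last : Set X) :=
    l'.last.isIrreducible.closure_genericPoint l'.last.isClosed
  obtain ⟨w, hw, -, hwT⟩ := hmax l'.last.isIrreducible.genericPoint
    (hsub (hgen.subset (subset_closure rfl)))
  let W : IrreducibleCloseds X := ⟨closure {w}, isIrreducible_singleton.closure, isClosed_closure⟩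
  have hlt : l'.last < W := by
    refine lt_of_le_of_ne ?_ fun h => hwT (hsub (by rw [h]; exact subset_closure rfl))
    show (l'.last : Set X) ⊆ closure {w}
    rw [← hgen]
    exact hw.closure_subset
  have h := (Order.LTSeries.length_le_krullDim (l'.snoc W hlt)).trans hX
  have h' : (((l.length + 1 : ℕ) : ℕ∞) : WithBot ℕ∞) ≤ (((e + 1 : ℕ) : ℕ∞) : WithBot ℕ∞) := h
  exact_mod_cast Nat.le_of_succ_le_succ (ENat.coe_le_coe.1 (WithBot.coe_le_coe.1 h'))

/-- An effective Cartier divisor has smaller dimension. -/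
theorem dim_support_le_of_isEffCartier {D : X.IdealSheafData} (hD : BlowUp.IsEffCartierIdeal D) {e : ℕ}
    (hX : topologicalKrullDim X ≤ ((e + 1 : ℕ) : WithBot ℕ∞)) :
    topologicalKrullDim ↥(D.support : Set X) ≤ (e : WithBot ℕ∞) := by
  refine dim_le_of_no_maximal D.support.isClosed (fun x hx => ?_) hX
  haveI : Nonempty X := ⟨x⟩
  let Z := irreducibleComponent x
  have hZ : IsIrreducible Z := isIrreducible_irreducibleComponent
  have hcl : IsClosed Z := isClosed_irreducibleComponent
  have hmx : ∀ y : X, y ⤳ hZ.genericPoint → y = hZ.genericPoint := fun y hy => by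
    have hsub : Z ⊆ closure {y} := (hZ.closure_genericPoint hcl).ge.trans hy.closure_subset
    have hle : closure ({y} : Set X) ⊆ Z :=
      (irreducibleComponent_mem_irreducibleComponents x).2 isIrreducible_singleton.closure hsub
    have : hZ.genericPoint ⤳ y := by
      rw [specializes_iff_mem_closure, hZ.closure_genericPoint hcl]
      exact hle (subset_closure rfl)
    exact (hy.antisymm this).eq
  refine ⟨hZ.genericPoint, ?_, fun h => ?_, IdealSh.Regular.not_mem_support_of_maximal hD _ hmx⟩
  · rw [specializes_iff_mem_closure, hZ.closure_genericPoint hcl]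
    exact mem_irreducibleComponent
  · exact IdealSh.Regular.not_mem_support_of_maximal hD _ hmx (h.symm ▸ hx)

variable (k : Type u) [Field k] [X.Over (Spec (CommRingCat.of k))]
  [IsProper (X ↘ Spec (CommRingCat.of k))]

/-- `(O · M₁⋯M_r · G) = 0`. -/
theorem intE_cons_unit {r : ℕ} {N : Fin r → X.Modules} (hN : ∀ i, PicF.IsInvertible (N i))
    {G : X.Modules} (hG : Coh.IsCoh G) : intE k (Fin.cons (Coh.structureModule X) N) G = 0 := by
  rw [intE_cons k hN (LFFrame.isInvertible_structureModule X) hG,
    CohDev.kcl_iso (oneTens G) (isCoh_tensorMod k (LFFrame.isInvertible_structureModule X) hG),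
    sub_self, map_zero, neg_zero]

theorem intE_cons_congr {r : ℕ} {N : Fin r → X.Modules} (hN : ∀ i, PicF.IsInvertible (N i))
    {A B : X.Modules} (hA : PicF.IsInvertible A) (hB : PicF.IsInvertible B) (e : A ≅ B)
    {G : X.Modules} (hG : Coh.IsCoh G) : intE k (Fin.cons A N) G = intE k (Fin.cons B N) G := by
  rw [intE_cons k hN hA hG, intE_cons k hN hB hG,
    CohDev.kcl_iso (tensCongr e (Iso.refl G)) (isCoh_tensorMod k hA hG)]

/-- An inverse changes the sign. -/
theorem intE_cons_inverse {r : ℕ} {N : Fin r → X.Modules} (hN : ∀ i, PicF.IsInvertible (N i))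
    {A B : X.Modules} (hA : PicF.IsInvertible A) (hB : PicF.IsInvertible B)
    (e : CohB1.tensorMod A B ≅ Coh.structureModule X)
    {G : X.Modules} (hG : Coh.IsCoh G)
    (hd : topologicalKrullDim ↥(CohB1.support G) ≤ ((r + 1 : ℕ) : WithBot ℕ∞)) :
    intE k (Fin.cons A N) G = -intE k (Fin.cons B N) G := by
  have h := intE_add k hN hA hB hG hd
  rw [intE_cons_congr k hN (AmpleLib.isInvertible_tensorMod hA hB)
    (LFFrame.isInvertible_structureModule X) e hG, intE_cons_unit k hN hG] at h
  omega

/-- The divisor rule. -/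
theorem intC_divisor {e : ℕ} (hX : topologicalKrullDim X ≤ ((e + 1 : ℕ) : WithBot ℕ∞))
    {D : X.IdealSheafData} {N : Fin e → X.Modules} (hN : ∀ i, PicF.IsInvertible (N i))
    {A : X.Modules} (hA : PicF.IsInvertible A)
    (hAD : CohB1.tensorMod A (ClSub.idealMod D) ≅ Coh.structureModule X) :
    intC k (Fin.cons A N) (Coh.structureModule X) = intC k N (ClSub.quotMod D) := by
  haveI := EulerChar.isNoetherian k (X := X)
  have hO : Coh.IsCoh (Coh.structureModule X) := ProperFin.isCoh_structureModule _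
  have hI : PicF.IsInvertible (ClSub.idealMod D) :=
    PicLaw.isInvertible_of_tensor_left hA
      (PicCl.isInvertible_of_iso hAD.symm (LFFrame.isInvertible_structureModule X))
  have hQ := EulerChar.isCoh_quotMod k D
  haveI : (Coh.structureModule D.subscheme).IsQuasicoherent :=
    ProjTwist.isQuasicoherent_structureModule D.subscheme
  have hIc : Coh.IsCoh (ClSub.idealMod D) :=
    CohDev.isCoh_kernel (ClSub.toSubscheme D) hO (QCoh.isQuasicoherent_pushforward D.subschemeι _)
  have hk := CohDev.kcl_add (EulerChar.shortExact_ideal D) hIc hO hQ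
  unfold intC
  rw [intE_cons_inverse k hN hA hI hAD hO (EulerChar.dim_support_le hX), intE_cons k hN hI hO,
    CohDev.kcl_iso (tensOne (ClSub.idealMod D)) (isCoh_tensorMod k hI hO),
    show CohDev.kcl (ClSub.idealMod D) - CohDev.kcl (Coh.structureModule X) =
      -CohDev.kcl (ClSub.quotMod D) by rw [hk]; abel, map_neg, intK_kcl k hN hQ]
  ring

/-- In dimension one the intersection number is the degree. -/
theorem intC_one (D : X.IdealSheafData) {L : X.Modules} (hL : PicF.IsInvertible L) :
    intC k (fun _ : Fin 1 => L) (ClSub.quotMod D) =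
      @Curv2.deg k _ D.subscheme ⟨D.subschemeι ≫ (X ↘ Spec (CommRingCat.of k))⟩
        ((Scheme.Modules.pullback D.subschemeι).obj L) 1 := by
  have hQ := EulerChar.isCoh_quotMod k D
  rw [← EulerChar.dev_quotMod k D (isFinLocFreeOfRank_one hL), EulerChar.dev_kcl k _ hQ, intC,
    show (fun _ : Fin 1 => L) = Fin.cons L (fun i : Fin 0 => L) from funext fun i => by
      fin_cases i; rfl,
    intE_cons k (fun i => i.elim0) hL hQ, map_sub,
    intK_kcl k (fun i => i.elim0) (isCoh_tensorMod k hL hQ), intK_kcl k (fun i => i.elim0) hQ,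
    intE_zero, intE_zero]
  show _ = Curv2.euler k X (CohB1.tensorMod L _) - _
  push_cast
  ring

/-- Points of a closed set with closure of top dimension are maximal in it. -/
theorem eq_of_top {T : Set X} {d : ℕ} (hT : IsClosed T)
    (hd : topologicalKrullDim ↥T ≤ (d : WithBot ℕ∞)) {ξ : X}
    (hξ : topologicalKrullDim ↥(closure ({ξ} : Set X)) = (d : WithBot ℕ∞)) {w : X} (hw : w ∈ T)
    (h : w ⤳ ξ) : ξ = w := by
  by_contra hne
  have hcl : closure ({w} : Set X) ⊆ T := closure_minimal (Set.singleton_subset_iff.2 hw) hT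
  exact absurd (CohDev.dim_closure_lt (specializes_iff_mem_closure.1 h) hne ((CohDev.dim_mono hcl).trans hd))
    (by rw [hξ]; exact lt_irrefl _)

theorem finite_top [IsNoetherian X] {T : Set X} {d : ℕ} (hT : IsClosed T)
    (hd : topologicalKrullDim ↥T ≤ (d : WithBot ℕ∞)) :
    {ξ : X | ξ ∈ T ∧ topologicalKrullDim ↥(closure ({ξ} : Set X)) = (d : WithBot ℕ∞)}.Finite := by
  have hfin : (irreducibleComponents ↥T).Finite := NoetherianSpace.finite_irreducibleComponents
  have hmem : ∀ ξ : ↥T, topologicalKrullDim ↥(closure ({(ξ : X)} : Set X)) = (d : WithBot ℕ∞) →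
      closure ({ξ} : Set ↥T) ∈ irreducibleComponents ↥T := by
    intro ξ hξ
    refine ⟨isIrreducible_singleton.closure, fun t ht hle y hy => ?_⟩
    have himg : IsIrreducible (Subtype.val '' t : Set X) := ht.image _ continuous_subtype_val.continuousOn
    have hc : closure (Subtype.val '' t : Set X) ⊆ T := closure_minimal (by rintro _ ⟨z, -, rfl⟩; exact z.2) hT
    have hg : closure {himg.closure.genericPoint} = closure (Subtype.val '' t : Set X) :=
      himg.closure.closure_genericPoint isClosed_closure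
    have hsp : himg.closure.genericPoint ⤳ (ξ : X) := by
      rw [specializes_iff_mem_closure, hg]
      exact subset_closure ⟨ξ, hle (subset_closure rfl), rfl⟩
    have he := eq_of_top hT hd hξ (hc (hg.subset (subset_closure rfl))) hsp
    have : (y : X) ∈ closure ({(ξ : X)} : Set X) := by
      rw [he, hg]
      exact subset_closure ⟨y, hy, rfl⟩
    rw [← specializes_iff_mem_closure] at this ⊢
    exact (Topology.IsInducing.subtypeVal.specializes_iff).1 this
  refine (Set.Finite.image Subtype.val ((hfin.preimage (f := fun ξ : ↥T => closure ({ξ} : Set ↥T)) ?_))).subset ?_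
  · intro a _ b _ hab
    exact (inseparable_iff_closure_eq.2 hab).eq
  · rintro ξ ⟨hξT, hξ⟩
    exact ⟨⟨ξ, hξT⟩, hmem ⟨ξ, hξT⟩ hξ, rfl⟩

/-- The length of a stalk. -/
abbrev len (G : X.Modules) (ξ : X) : ℕ∞ := Module.length (X.presheaf.stalk ξ) (G.presheaf.stalk ξ)

/-- The intersection number is a sum over components of top dimension. -/
theorem intE_components {d : ℕ} {L : Fin d → X.Modules} (hL : ∀ i, PicF.IsInvertible (L i))
    {T : Set X} (hT : IsClosed T) (hd : topologicalKrullDim ↥T ≤ (d : WithBot ℕ∞))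
    (s : Finset X) (hs : ∀ ξ, ξ ∈ s ↔ ξ ∈ T ∧ topologicalKrullDim ↥(closure ({ξ} : Set X)) = (d : WithBot ℕ∞))
    {G : X.Modules} (hG : Coh.IsCoh G) (hsupp : CohB1.support G ⊆ T) :
    intE k L G = ∑ ξ ∈ s, ((len G ξ).toNat : ℤ) * intE k L (Cyc.closureStructureSheaf ξ) := by
  classical
  haveI := EulerChar.isNoetherian k (X := X)
  refine (CohDev.devissage_on T (fun G => (∀ ξ ∈ s, len G ξ ≠ ⊤) ∧
    intE k L G = ∑ ξ ∈ s, ((len G ξ).toNat : ℤ) * intE k L (Cyc.closureStructureSheaf ξ))
    (fun M hM => ?_) (fun S hS h₁ h₂ h₃ _ p₁ p₃ => ?_) (fun x hx J hJ hJT => ?_) hG hsupp).2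
  · have h0 : ∀ ξ, len M ξ = 0 := fun ξ =>
      Module.length_eq_zero_iff.2 (AddCommGrpCat.subsingleton_of_isZero
        ((Scheme.Modules.toPresheaf X ⋙ TopCat.Presheaf.stalkFunctor AddCommGrpCat.{u} ξ).map_isZero hM))
    refine ⟨fun ξ _ => by simp [h0], ?_⟩
    rw [← intK_kcl k hL (CohDev.isCoh_of_isZero hM), CohDev.kcl_of_isZero hM, map_zero]
    simp [h0]
  · have hadd : ∀ ξ, len S.X₂ ξ = len S.X₁ ξ + len S.X₃ ξ := fun ξ => by
      obtain ⟨hi, he, hs'⟩ := stalk_exact hS ξ
      exact Module.length_eq_add_of_exact _ _ hi hs' he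
    refine ⟨fun ξ hξ => by rw [hadd]; exact WithTop.add_ne_top.2 ⟨p₁.1 ξ hξ, p₃.1 ξ hξ⟩, ?_⟩
    rw [← intK_kcl k hL h₂, CohDev.kcl_add hS h₁ h₂ h₃, map_add,
      intK_kcl k hL h₁, intK_kcl k hL h₃, p₁.2, p₃.2, ← Finset.sum_add_distrib]
    refine Finset.sum_congr rfl fun ξ hξ => ?_
    rw [hadd, ENat.toNat_add (p₁.1 ξ hξ) (p₃.1 ξ hξ)]
    push_cast
    ring
  · have hJs := hJ.support_subset
    obtain ⟨g, hg, hJc, hxJ⟩ := hJ
    have hcl : closure ({x} : Set X) ⊆ T := closure_minimal (Set.singleton_subset_iff.2 hx) hT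
    have hlen : ∀ ξ ∈ s, len J ξ = if ξ = x then 1 else 0 := by
      intro ξ hξ
      split_ifs with h
      · subst h
        exact ((LinearEquiv.ofBijective (stalkLin g ξ) (CohDev.stalk_piece g hxJ)).length_eq).trans
          (CohDev.length_stalk_oz ξ)
      · refine Module.length_eq_zero_iff.2 ?_
        by_contra hne
        exact h (eq_of_top hT hd ((hs ξ).1 hξ).2 hx (specializes_iff_mem_closure.2 (hJs hne)))
    have hQ := CohDev.isCoh_cokernel g hJc.1 (CohDev.isCoh_oz x)
    have hQs : CohB1.support (cokernel g) ⊆ closure {x} :=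
      (CohDev.support_subset_of_epi (cokernel.π g)).trans (CohDev.support_oz_subset x)
    have hQd : topologicalKrullDim ↥(CohB1.support (cokernel g)) < (d : WithBot ℕ∞) :=
      CohDev.dim_lt_of_irreducible (CohDev.isClosed_support hQ) isIrreducible_singleton.closure hQs
        (fun h => CohDev.not_mem_support_cokernel g (CohDev.stalk_piece g hxJ).2 (h (subset_closure rfl)))
        ((CohDev.dim_mono hcl).trans hd)
    have heq : intE k L J = intE k L (Cyc.closureStructureSheaf x) := by
      rw [← intK_kcl k hL hJc, ← intK_kcl k hL (CohDev.isCoh_oz x),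
        CohDev.kcl_mono g hJc (CohDev.isCoh_oz x), map_add, intK_kcl k hL hQ,
        intE_eq_zero k hL hQ hQd, add_zero]
    refine ⟨fun ξ hξ => by rw [hlen ξ hξ]; split_ifs <;> simp, ?_⟩
    rw [Finset.sum_congr rfl fun ξ hξ => by rw [hlen ξ hξ]]
    by_cases hxs : x ∈ s
    · rw [Finset.sum_eq_single x (fun b _ hb => by simp [hb]) (fun h => absurd hxs h)]
      simpa using heq
    · rw [Finset.sum_eq_zero fun ξ hξ => by simp [show ξ ≠ x from fun h => hxs (h ▸ hξ)], heq]
      refine intE_eq_zero k hL (CohDev.isCoh_oz x) (lt_of_le_of_ne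
        (((CohDev.dim_mono (CohDev.support_oz_subset x)).trans (CohDev.dim_mono hcl)).trans hd) fun h => hxs ?_)
      exact (hs x).2 ⟨hx, le_antisymm ((CohDev.dim_mono hcl).trans hd)
        (h.ge.trans (CohDev.dim_mono (CohDev.support_oz_subset x)))⟩

end Groth.Agent.IntProd70
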