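import Groth.Agent.IntProd70.Rules
import Groth.Agent.EulerChar.Leray
import Groth.Agent.EulerChar.FiniteMap
import Groth.Agent.ProjForm.Derived
import Groth.Agent.FormalVan.Basic
import Groth.Agent.FibBound.Basic
import Groth.Agent.LangWeil.Dim
import Groth.Agent.S4357
import Groth.Agent.Snapper.BaseChange

/-!
# Intersection numbers and direct images

`(g^*M₁ ⋯ g^*M_r · G) = (M₁ ⋯ M_r · g_*G)` when the support of `G` has dimension `≤ r`.
-/

universe u

set_option autoImplicit false
set_option linter.style.haveILetI false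

open CategoryTheory CategoryTheory.Limits AlgebraicGeometry TopologicalSpace

noncomputable section

namespace Groth.Agent.IntProd70

open ProjTwist Snapper FormalFun

/-- Higher direct images vanish above the dimension of the support in the fibre. -/
theorem subsingleton_stalk_rpush {X Y : Scheme.{u}} (f : X ⟶ Y) [IsProper f] [IsLocallyNoetherian Y]
    (y : Y) (d : ℕ) (M : X.Modules) (hM : Coh.IsCoh M)
    (hd : topologicalKrullDim ↥((f.fiberι y).base ⁻¹' CohB1.support M : Set (f.fiber y)) ≤ d)
    (p : ℕ) (hp : d < p) :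
    Subsingleton (((Coh.Rpush f p).obj M).presheaf.stalk y) := by
  let R := Y.presheaf.stalk y
  let X₁ := pullback f (Y.fromSpecStalk y)
  let g : X₁ ⟶ X := pullback.fst _ _
  let : X₁.Over (Spec (CommRingCat.of R)) := ⟨pullback.snd _ _⟩
  have hsq : IsPullback g (X₁ ↘ Spec (CommRingCat.of R)) f (Y.fromSpecStalk y) :=
    IsPullback.of_hasPullback _ _
  have : IsProper (X₁ ↘ Spec (CommRingCat.of R)) := MorphismProperty.of_isPullback hsq ‹_›
  have := isLocallyNoetherian_of_proper R X₁
  have := compactSpace_of_proper R X₁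
  have : IsLocallyNoetherian X := LocallyOfFiniteType.isLocallyNoetherian f
  have : IsNoetherian X₁ := {}
  have : M.IsQuasicoherent := hM.1
  haveI : Coh.IsQCoh M := hM.1
  obtain ⟨e⟩ := nonempty_stalkEquiv f M y p X₁ g hsq
  let m := IsLocalRing.maximalIdeal R
  have hM₁ : Coh.IsCoh ((Scheme.Modules.pullback g).obj M) := ZClosLib.CohDescent.isCoh_pullback g M hM
  have hfin := finiteCoh_of_proper R X₁
  have := hfin _ hM₁ p
  obtain ⟨e'⟩ := formal_functions m p hfin hM₁
  -- the truncations live on the fibre, inside the support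
  have hz : ∀ n, Subsingleton (Formal.HHmodPow m ((Scheme.Modules.pullback g).obj M) p n) := by
    intro n
    refine ProjTwist.Pn.subsingleton_of_supportDim_le (isCoh_modPow (I := m) hM₁ (n + 1)) d ?_ p hp
    have : IsPreimmersion g := MorphismProperty.of_isPullback hsq.flip inferInstance
    have hcl : ∀ x : CohB1.support (Formal.modPow m (n + 1) ((Scheme.Modules.pullback g).obj M)),
        g x.1 ∈ (f.base ⁻¹' {y} : Set X) := by
      intro x
      have h := FormalVan.mem_zeroLocus_of_mem_support_modPow m _ _ x.2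
      have h2 : (X₁ ↘ Spec (CommRingCat.of R)) x.1 = IsLocalRing.closedPoint R :=
        PrimeSpectrum.ext (le_antisymm (IsLocalRing.le_maximalIdeal (PrimeSpectrum.isPrime _).ne_top) h)
      have h3 : f (g x.1) = Y.fromSpecStalk y ((X₁ ↘ Spec (CommRingCat.of R)) x.1) := by
        rw [← Scheme.Hom.comp_apply, hsq.w, Scheme.Hom.comp_apply]
      rw [Set.mem_preimage, Set.mem_singleton_iff]
      exact h3.trans ((congrArg _ h2).trans Scheme.fromSpecStalk_closedPoint)
    let j₀ : CohB1.support (Formal.modPow m (n + 1) ((Scheme.Modules.pullback g).obj M)) →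
        (f.base ⁻¹' {y} : Set X) := Set.codRestrict (fun x => g x.1) _ hcl
    have hj₀ : Topology.IsInducing j₀ :=
      (g.isEmbedding.isInducing.comp Topology.IsInducing.subtypeVal).codRestrict _
    have hsupp : ∀ x, (f.fiberHomeo y).symm (j₀ x) ∈
        ((f.fiberι y).base ⁻¹' CohB1.support M : Set (f.fiber y)) := by
      intro x
      rw [Set.mem_preimage]
      have hx : g x.1 ∈ CohB1.support M := by
        haveI : Epi (Formal.modPowπ m (n + 1) ((Scheme.Modules.pullback g).obj M)) :=
          inferInstanceAs (Epi (cokernel.π _))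
        have h := CohDev.support_subset_of_epi (Formal.modPowπ m (n + 1) ((Scheme.Modules.pullback g).obj M)) x.2
        rwa [S4357.result g M hM.2] at h
      rw [show (f.fiberι y).base ((f.fiberHomeo y).symm (j₀ x)) = g x.1 from
        congrArg Subtype.val ((f.fiberHomeo y).apply_symm_apply (j₀ x))]
      exact hx
    let j : CohB1.support (Formal.modPow m (n + 1) ((Scheme.Modules.pullback g).obj M)) →
        ↥((f.fiberι y).base ⁻¹' CohB1.support M : Set (f.fiber y)) :=
      Set.codRestrict (fun x => (f.fiberHomeo y).symm (j₀ x)) _ hsupp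
    have hj : Topology.IsInducing j :=
      ((f.fiberHomeo y).symm.isInducing.comp hj₀).codRestrict _
    exact hj.topologicalKrullDim_le.trans hd
  -- so the completion, hence the finite module, vanishes
  have : Subsingleton (Formal.HHlim m ((Scheme.Modules.pullback g).obj M) p) :=
    ⟨fun a b => Subtype.ext (funext fun n => (hz n).elim _ _)⟩
  have : Subsingleton (AdicCompletion m (Coh.HH X₁ ((Scheme.Modules.pullback g).obj M) p)) :=
    e'.injective.subsingleton
  have hH : Subsingleton (Coh.HH X₁ ((Scheme.Modules.pullback g).obj M) p) := by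
    have h1 : (⊤ : Submodule R (Coh.HH X₁ ((Scheme.Modules.pullback g).obj M) p)) ≤ m ^ 1 • ⊤ := fun z _ => by
      have := Subsingleton.elim (AdicCompletion.of m _ z) 0
      exact (Submodule.Quotient.mk_eq_zero _).mp (congrArg (fun w => AdicCompletion.eval m _ 1 w) this)
    rw [pow_one] at h1
    have := Submodule.eq_bot_of_le_smul_of_le_jacobson_bot m ⊤ Module.Finite.fg_top h1
      (IsLocalRing.maximalIdeal_le_jacobson ⊥)
    exact subsingleton_of_forall_eq 0 fun z => (Submodule.mem_bot R).mp (this ▸ Submodule.mem_top)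
  exact e.injective.subsingleton

section Field

variable (k : Type u) [Field k] {X Y : Scheme.{u}} [X.Over (Spec (CommRingCat.of k))]
  [Y.Over (Spec (CommRingCat.of k))] [IsProper (X ↘ Spec (CommRingCat.of k))]
  [IsProper (Y ↘ Spec (CommRingCat.of k))] (f : Y ⟶ X)
  (w : f ≫ (X ↘ Spec (CommRingCat.of k)) = Y ↘ Spec (CommRingCat.of k))

include k w

/-- A point of dimension not dropping has finitely many companions of top dimension in its fibre. -/
theorem fibre_discrete {T : Set Y} (hT : IsClosed T) {r : ℕ}
    (hr : topologicalKrullDim ↥T ≤ (r : WithBot ℕ∞)) {y : X} (hy : r ≤ VarDim.dimPt k X y) :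
    topologicalKrullDim ↥((f.fiberι y).base ⁻¹' T : Set (f.fiber y)) ≤ ((0 : ℕ) : WithBot ℕ∞) := by
  haveI : IsProper f := EulerChar.isProper_hom f w
  haveI : QuasiSober ↥((f.fiberι y).base ⁻¹' T : Set (f.fiber y)) :=
    (hT.preimage (f.fiberι y).continuous).isClosedEmbedding_subtypeVal.quasiSober
  rw [DimLift.topDim_eq_krullDim_points (X := ↥((f.fiberι y).base ⁻¹' T : Set (f.fiber y))), Nat.cast_zero]
  letI : Preorder ↥((f.fiberι y).base ⁻¹' T : Set (f.fiber y)) := (specializationOrder _).toPreorder
  refine Order.krullDim_nonpos_iff_forall_isMax.2 fun a b hab => ?_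
  have hab' : (f.fiberι y) b.1 ⤳ (f.fiberι y) a.1 :=
    (show b ⤳ a from hab).map ((f.fiberι y).continuous.comp continuous_subtype_val)
  have key : ∀ c : ↥((f.fiberι y).base ⁻¹' T : Set (f.fiber y)),
      VarDim.dimPt k Y ((f.fiberι y) c.1) = r := by
    intro c
    refine le_antisymm ?_ ?_
    · have h := (LangWeil.dimPt_le_dim k hT c.2).trans hr
      exact_mod_cast h
    · obtain ⟨e, -, he⟩ := FibBound.dimPt_eq_add f k w ((f.fiberι y) c.1)
      have hfy : f ((f.fiberι y) c.1) = y := by
        have h := (f.range_fiberι y).subset ⟨c.1, rfl⟩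
        exact h
      rw [he, hfy]
      omega
  have heq : (f.fiberι y) b.1 = (f.fiberι y) a.1 := by
    by_contra hne
    obtain ⟨e, he, hdim⟩ := FibBound.dimPt_eq_add f k w ((f.fiberι y) b.1)
    have hlt : VarDim.dimPt k Y ((f.fiberι y) a.1) < VarDim.dimPt k Y ((f.fiberι y) b.1) :=
      VarDim.strictMono_dimPt k (lt_iff_le_not_ge.2 ⟨hab', fun h => hne (Specializes.antisymm h hab').eq.symm⟩)
    rw [key a, key b] at hlt
    exact lt_irrefl _ hlt
  rw [show b = a from Subtype.ext ((f.fiberι y).isEmbedding.injective heq)]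

/-- The supports of higher direct images are small. -/
theorem dim_support_rpush_lt [HasInjectiveResolutions Y.Modules] {G : Y.Modules} (hG : Coh.IsCoh G)
    {r : ℕ} (hr : topologicalKrullDim ↥(CohB1.support G) ≤ (r : WithBot ℕ∞)) {i : ℕ} (hi : 0 < i) :
    topologicalKrullDim ↥(CohB1.support ((Coh.Rpush f i).obj G)) < (r : WithBot ℕ∞) := by
  haveI : IsProper f := EulerChar.isProper_hom f w
  haveI := EulerChar.isLocallyNoetherian k (X := X)
  haveI := EulerChar.isLocallyNoetherian k (X := Y)
  have hR : Coh.IsCoh ((Coh.Rpush f i).obj G) := Groth.Agent.S0036.result f G hG i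
  have key : ∀ y ∈ CohB1.support ((Coh.Rpush f i).obj G), VarDim.dimPt k X y < r := by
    intro y hy
    by_contra hlt
    exact hy (subsingleton_stalk_rpush f y 0 G hG
      (fibre_discrete k f w (CohDev.isClosed_support hG) hr (not_lt.1 hlt)) i hi)
  rcases r with _ | r
  · rw [Set.eq_empty_of_forall_notMem fun y hy => Nat.not_lt_zero _ (key y hy)]
    haveI : IsEmpty (IrreducibleCloseds ↥(∅ : Set X)) := ⟨fun s => isEmptyElim s.isIrreducible.1.some⟩
    rw [show topologicalKrullDim ↥(∅ : Set X) = ⊥ from Order.krullDim_eq_bot]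
    exact WithBot.bot_lt_coe _
  · refine lt_of_le_of_lt (LangWeil.dim_le_of_forall k (CohDev.isClosed_support hR) (n := r)
      fun y hy => Nat.lt_succ_iff.1 (key y hy)) ?_
    exact_mod_cast Nat.lt_succ_self r

/-- Higher direct images vanish in large degrees. -/
theorem exists_bound_rpush [HasInjectiveResolutions Y.Modules] {G : Y.Modules} (hG : Coh.IsCoh G) :
    ∃ D : ℕ, ∀ i, D < i → IsZero ((Coh.Rpush f i).obj G) := by
  haveI : IsProper f := EulerChar.isProper_hom f w
  let R := CohAff.FRes.ofMod G
  haveI : (R.Z 0).IsQuasicoherent := hG.1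
  obtain ⟨T, hT⟩ := EulerChar.exists_bound_Rc (k := k) f R
  refine ⟨T, fun i hi => ?_⟩
  obtain ⟨j, rfl⟩ := Nat.exists_eq_add_of_le' (show 1 ≤ i by omega)
  exact (hT j (by omega)).of_iso (R.rpushIsoRc f j)

variable {k}

theorem euler_pullback_tens [HasInjectiveResolutions Y.Modules] {T : X.Modules} (hT : PicF.IsInvertible T)
    {G : Y.Modules} (hG : Coh.IsCoh G) :
    Curv2.euler k Y (CohB1.tensorMod ((Scheme.Modules.pullback f).obj T) G) =
      ∑ᶠ i : ℕ, (-1 : ℤ) ^ i * Curv2.euler k X (CohB1.tensorMod T ((Coh.Rpush f i).obj G)) := by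
  haveI : IsProper f := EulerChar.isProper_hom f w
  have hT' : PicF.IsInvertible ((Scheme.Modules.pullback f).obj T) := PicCl.isInvertible_pullback f hT
  rw [EulerChar.euler_leray f w _ (isCoh_tensorMod k hT' hG)]
  refine finsum_congr fun i => ?_
  obtain ⟨e⟩ := ProjForm.nonempty_rpush_tensor f G
    (fun x => let ⟨U, hU, h⟩ := isFinLocFreeOfRank_one hT x; ⟨U, 1, hU, h⟩) i
  exact congrArg _ (EulerChar.euler_iso k e.symm)

/-- Intersection numbers of pullbacks. -/
theorem intE_pullback [HasInjectiveResolutions Y.Modules] {r : ℕ} {M : Fin r → X.Modules}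
    (hM : ∀ i, PicF.IsInvertible (M i)) {G : Y.Modules} (hG : Coh.IsCoh G)
    (hr : topologicalKrullDim ↥(CohB1.support G) ≤ (r : WithBot ℕ∞)) :
    intE k (fun i => (Scheme.Modules.pullback f).obj (M i)) G =
      intE k M ((Scheme.Modules.pushforward f).obj G) := by
  classical
  haveI : IsProper f := EulerChar.isProper_hom f w
  haveI := EulerChar.isLocallyNoetherian k (X := X)
  obtain ⟨D, hD⟩ := exists_bound_rpush k f w hG
  have hR : ∀ i, Coh.IsCoh ((Coh.Rpush f i).obj G) := fun i => Groth.Agent.S0036.result f G hG i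
  have hTI : ∀ I : Finset (Fin r), PicF.IsInvertible (FGA.tensorList ((I.sort (· ≤ ·)).map M)) :=
    fun I => isInvertible_tensorList fun N hN => by
      obtain ⟨i, -, rfl⟩ := List.mem_map.1 hN
      exact hM i
  have hterm : ∀ I : Finset (Fin r),
      Curv2.euler k Y (CohB1.tensorMod (FGA.tensorList ((I.sort (· ≤ ·)).map
        fun i => (Scheme.Modules.pullback f).obj (M i))) G) =
        ∑ i ∈ Finset.range (D + 1), (-1 : ℤ) ^ i *
          Curv2.euler k X (CohB1.tensorMod (FGA.tensorList ((I.sort (· ≤ ·)).map M))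
            ((Coh.Rpush f i).obj G)) := by
    intro I
    obtain ⟨e⟩ := Snapper.pullback_tensorList f ((I.sort (· ≤ ·)).map M)
    rw [show (I.sort (· ≤ ·)).map (fun i => (Scheme.Modules.pullback f).obj (M i)) =
      ((I.sort (· ≤ ·)).map M).map (Scheme.Modules.pullback f).obj from (List.map_map).symm,
      EulerChar.euler_iso k (tensCongr e.symm (Iso.refl G)), euler_pullback_tens f w (hTI I) hG,
      finsum_eq_sum_of_support_subset (s := Finset.range (D + 1)) _ fun i hi => by
        by_contra hn
        simp only [Finset.coe_range, Set.mem_Iio, not_lt] at hn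
        refine hi ?_
        show _ * _ = (0 : ℤ)
        rw [← chiT_kcl k (hTI I) (hR i), CohDev.kcl_of_isZero (hD i (by omega)), map_zero, mul_zero]]
  calc intE k (fun i => (Scheme.Modules.pullback f).obj (M i)) G
      = ∑ i ∈ Finset.range (D + 1), (-1 : ℤ) ^ i * intE k M ((Coh.Rpush f i).obj G) := by
        unfold intE
        simp only [hterm, Finset.mul_sum]
        rw [Finset.sum_comm]
        exact Finset.sum_congr rfl fun i _ => Finset.sum_congr rfl fun I _ => by ring
    _ = intE k M ((Coh.Rpush f 0).obj G) := by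
        rw [Finset.sum_eq_single 0 (fun i _ hi => by
          rw [intE_eq_zero k hM (hR i) (dim_support_rpush_lt k f w hG hr (Nat.pos_of_ne_zero hi)), mul_zero])
          (fun h => absurd (Finset.mem_range.2 (Nat.succ_pos D)) h), pow_zero, one_mul]
    _ = intE k M ((Scheme.Modules.pushforward f).obj G) :=
        Finset.sum_congr rfl fun I _ => by
          rw [EulerChar.euler_iso k (tensCongr (Iso.refl _)
            ((Scheme.Modules.pushforward f).rightDerivedZeroIsoSelf.app G))]

end Field

end Groth.Agent.IntProd70
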