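import Groth.Agent.AmpCrit.SerreVan
import Groth.Agent.IntProd70.Rules
import Groth.Agent.EulerChar.AmpleCurve
import Groth.Agent.FibBound.Basic
import Groth.Agent.LangWeil.Dim
import Groth.Agent.HilbPolyX.Ample
import Groth.Agent.PerfSch.DescSec
import Groth.Agent.Props.AffineCrit
import Groth.Agent.S16188
import Mathlib.AlgebraicGeometry.ZariskisMainTheorem

/-!
# Semi-ample modules of positive degree on every curve are ample
-/

universe u

set_option autoImplicit false
set_option linter.style.haveILetI false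

open CategoryTheory Limits AlgebraicGeometry Opposite TopologicalSpace

noncomputable section

namespace Groth.Agent.IntProd70

open Groth.Agent.QCoh Groth.Agent.Props.GenLocus Groth.Agent.Props.GenTensor
  Groth.Agent.Props.GenProd Groth.Agent.Props.GenPull Groth.Agent.AmpleLib Groth.Agent.ProjTwist
  Groth.Agent.ProjTwist.Pn Groth.Agent.AmpCrit.SerreVan

variable (k : Type u) [Field k] {X : Scheme.{u}} [X.Over (Spec (CommRingCat.of k))]

/-- Below a point of positive dimension lies a point with a closure of dimension one. -/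
theorem exists_curve_point : ∀ (d : ℕ) (x : X),
    topologicalKrullDim ↥(closure ({x} : Set X)) = ((d + 1 : ℕ) : WithBot ℕ∞) →
      ∃ y ∈ closure ({x} : Set X),
        topologicalKrullDim ↥(closure ({y} : Set X)) = ((1 : ℕ) : WithBot ℕ∞)
  | 0, x, hx => ⟨x, subset_closure rfl, hx⟩
  | d + 1, x, hx => by
    obtain ⟨y, hy, -, hdy⟩ := HilbPolyX.exists_point_dim hx
    obtain ⟨z, hz, hdz⟩ := exists_curve_point d y hdy
    exact ⟨z, closure_minimal (Set.singleton_subset_iff.2 hy) isClosed_closure hz, hdz⟩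

variable [IsProper (X ↘ Spec (CommRingCat.of k))]

include k in
/-- Closed fibres without curves are finite and discrete. -/
theorem quasiFinite_of_no_curve {P : Scheme.{u}} (r : X ⟶ P) [IsProper r]
    (h : ∀ z : X, topologicalKrullDim ↥(closure ({z} : Set X)) = ((1 : ℕ) : WithBot ℕ∞) →
      ∀ y : P, IsClosed ({y} : Set P) → ¬ closure ({z} : Set X) ⊆ r.base ⁻¹' {y}) :
    LocallyQuasiFinite r := by
  haveI := EulerChar.isNoetherian k (X := X)
  have hclosed : ∀ x : X, IsClosed ({x} : Set X) → r.QuasiFiniteAt x := by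
    intro x hx
    have hy : IsClosed ({r x} : Set P) := by
      rw [← Set.image_singleton]; exact r.isClosedMap _ hx
    let T : Set X := r.base ⁻¹' {r x}
    have hT : IsClosed T := hy.preimage r.continuous
    have hzero : ∀ z ∈ T, topologicalKrullDim ↥(closure ({z} : Set X)) = ((0 : ℕ) : WithBot ℕ∞) := by
      intro z hz
      rw [FibBound.topDim_closure_singleton k z]
      rcases Nat.eq_zero_or_pos (VarDim.dimPt k X z) with h0 | h0
      · rw [h0]
      · exfalso
        obtain ⟨d, hd⟩ := Nat.exists_eq_add_of_le' h0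
        obtain ⟨c, hc, hdc⟩ := exists_curve_point d z (by rw [FibBound.topDim_closure_singleton k z, hd])
        exact h c hdc _ hy ((closure_minimal (Set.singleton_subset_iff.2 hc) isClosed_closure).trans
          (closure_minimal (Set.singleton_subset_iff.2 hz) hT))
    have hdim : topologicalKrullDim ↥T ≤ ((0 : ℕ) : WithBot ℕ∞) := by
      refine LangWeil.dim_le_of_forall k hT fun z hz => ?_
      have := hzero z hz
      rw [FibBound.topDim_closure_singleton k z] at this
      exact le_of_eq (by exact_mod_cast this)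
    have hfin : T.Finite := (finite_top hT hdim).subset fun z hz => ⟨hz, hzero z hz⟩
    rw [Scheme.Hom.quasiFiniteAt_iff_isOpen_singleton_asFiber]
    haveI : Finite ↥(r.base ⁻¹' {r x}) := hfin.to_subtype
    haveI : T1Space ↥(r.base ⁻¹' {r x}) := ⟨fun z => by
      have hz : IsClosed ({(z : X)} : Set X) := by
        rw [← closure_subset_iff_isClosed]
        intro c hc
        by_contra hne
        have h1 := CohDev.dim_closure_lt hc (fun e => hne (Set.mem_singleton_iff.2 e)) (le_of_eq (hzero _ z.2))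
        rw [hzero c (closure_minimal (Set.singleton_subset_iff.2 z.2) hT hc)] at h1
        exact lt_irrefl _ h1
      convert hz.preimage (continuous_subtype_val (p := (· ∈ r.base ⁻¹' {r x})))
      ext w; simp [Subtype.ext_iff]⟩
    haveI : DiscreteTopology ↥(r.base ⁻¹' {r x}) := inferInstance
    rw [← (r.fiberHomeo (r x)).isOpen_image]
    exact isOpen_discrete _
  have hall : r.quasiFiniteLocus = ⊤ := Props.AffineCrit.eq_top_of_closed_points hclosed
  haveI : QuasiCompact r := inferInstance
  refine LocallyQuasiFinite.of_finite_preimage_singleton r fun y => ?_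
  haveI : DiscreteTopology ↥(r.fiber y) := by
    refine discreteTopology_iff_isOpen_singleton.2 fun z => ?_
    have hz : r ((r.fiberι y) z) = y := (r.range_fiberι y).subset ⟨z, rfl⟩
    have h1 : r.QuasiFiniteAt ((r.fiberι y) z) := hall.ge (trivial : _ ∈ (⊤ : X.Opens))
    rw [Scheme.Hom.quasiFiniteAt_iff_isOpen_singleton_asFiber] at h1
    have key : ∀ (y' : P) (z' : ↥(r.fiber y')) (x' : X) (e : r x' = y'), (r.fiberι y') z' = x' →
        IsOpen ({r.asFiber x'} : Set _) → IsOpen ({z'} : Set _) := by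
      rintro _ z' x' rfl hx' ho
      convert ho
      exact (r.fiberι _).isEmbedding.injective (hx'.trans (r.fiberι_asFiber x').symm)
    exact key y z _ hz rfl h1
  haveI : CompactSpace ↥(r.fiber y) := inferInstance
  haveI : Finite ↥(r.fiber y) := finite_of_compact_of_discrete
  rw [← r.range_fiberι y]
  exact Set.finite_range _

include k in
/-- Ampleness from sections without common zeros and positivity on curves. -/
theorem isAmple_of_loci_of_curves {L : X.Modules} (hL : PicF.IsInvertible L)
    (hgen : ∀ x : X, IsClosed ({x} : Set X) →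
      ∃ (n : ℕ) (s : Coh.structureModule X ⟶ CohB1.tensorPow L (n + 1)), x ∈ CohB1.genLocus _ s)
    (hcurves : ∀ C : X.IdealSheafData, IsIntegral C.subscheme →
      topologicalKrullDim (C.support : Set X) = 1 →
        CohB1.IsAmple ((Scheme.Modules.pullback C.subschemeι).obj L)) :
    CohB1.IsAmple L := by
  classical
  haveI := EulerChar.isNoetherian k (X := X)
  haveI : X.IsSeparated := ⟨by
    rw [show terminal.from X = (X ↘ Spec (CommRingCat.of k)) ≫ terminal.from _ from Subsingleton.elim _ _]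
    infer_instance⟩
  have hO : ⋃ p : Σ n : ℕ, (Coh.structureModule X ⟶ CohB1.tensorPow L (n + 1)),
      (CohB1.genLocus _ p.2 : Set X) = Set.univ := by
    have : (⨆ p : Σ n : ℕ, (Coh.structureModule X ⟶ CohB1.tensorPow L (n + 1)),
        CohB1.genLocus _ p.2) = ⊤ := Props.AffineCrit.eq_top_of_closed_points fun x hx => by
      obtain ⟨n, s, hs⟩ := hgen x hx
      exact Opens.mem_iSup.2 ⟨⟨n, s⟩, hs⟩
    rw [← Opens.coe_iSup, this]; rfl
  obtain ⟨t, ht⟩ := isCompact_univ.elim_finite_subcover
    (fun p : Σ n : ℕ, (Coh.structureModule X ⟶ CohB1.tensorPow L (n + 1)) =>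
      (CohB1.genLocus _ p.2 : Set X)) (fun p => (CohB1.genLocus _ p.2).2) hO.ge
  let K := ∏ p ∈ t, (p.1 + 1)
  let p : Fin t.card → Σ n : ℕ, (Coh.structureModule X ⟶ CohB1.tensorPow L (n + 1)) :=
    fun i => t.equivFin.symm i
  have hK : 0 < K := Finset.prod_pos fun q _ => Nat.succ_pos _
  have hdvd : ∀ i, ∃ a, K = ((p i).1 + 1) * a ∧ 0 < a := fun i => by
    obtain ⟨a, ha⟩ := Finset.dvd_prod_of_mem (fun q : Σ n : ℕ, _ => q.1 + 1) (t.equivFin.symm i).2
    exact ⟨a, ha, Nat.pos_of_mul_pos_left (show 0 < ((t.equivFin.symm i).1.1 + 1) * a by rw [← ha]; exact hK)⟩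
  choose a ha hapos using hdvd
  choose s' hs' using fun i => exists_pow hL (p i).2 (a i) K (ha i)
  let M := CohB1.tensorPow L K
  have hM : PicF.IsInvertible M := AmpleLib.isInvertible_tensorPow hL K
  let σ : Fin (t.card + 1) → ProjUP.Γm M :=
    fun j => if hj : (j : ℕ) < t.card then sec (s' ⟨j, hj⟩) ⊤ else 0
  have hσ : ∀ i : Fin t.card, locus (O := ⊤) (σ i.castSucc) = CohB1.genLocus _ (p i).2 := fun i => by
    simp only [σ, Fin.val_castSucc, i.2, dif_pos, Fin.eta]
    rw [← genLocus_eq_locus, genLocus_pow hL _ (hapos i) (s' i) (hs' i)]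
  have hcov : ∀ x : X, ∃ i, x ∈ locus (O := ⊤) (σ i) := fun x => by
    obtain ⟨q, hq, hxq⟩ := Set.mem_iUnion₂.1 (ht (Set.mem_univ x))
    refine ⟨(t.equivFin ⟨q, hq⟩).castSucc, ?_⟩
    rw [hσ]
    simp only [p]
    rw [Equiv.symm_apply_apply]
    exact hxq
  let q₀ : k →+* Γ(X, ⊤) := ProjUP.toGlobal (X ↘ Spec (CommRingCat.of k))
  let c := t.card
  let T : Fin (c + 1) → MvPolynomial (Fin (c + 1)) k := fun i => MvPolynomial.X i
  have hTh : ∀ i, T i ∈ CohB1.polyGrading c k 1 := fun i => MvPolynomial.isHomogeneous_X k i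
  obtain ⟨r, τ, hr, hpre, -, -⟩ := ProjMorph.exists_to_proj (𝒜 := CohB1.polyGrading c k) T hTh
    MvPolynomial.adjoin_range_X q₀ hM σ (generatedBy_of_loci σ hcov) fun i cc _ =>
      ⟨MvPolynomial.eval₂Hom ((rres le_top).hom.comp q₀) cc,
        RingHom.ext fun a => MvPolynomial.eval₂Hom_C _ _ a, fun j => MvPolynomial.eval₂Hom_X' _ _ j⟩
  have hrf : r ≫ CohB1.ProjSpace.toSpec c k = X ↘ Spec (CommRingCat.of k) :=
    hr.trans (ProjMorph.toSpecΓ_toGlobal _)
  haveI := ProjProper.Basic.isProper_toSpec c k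
  haveI : IsProper (r ≫ CohB1.ProjSpace.toSpec c k) := by rw [hrf]; infer_instance
  haveI : IsProper r := IsProper.of_comp r (CohB1.ProjSpace.toSpec c k)
  haveI : LocallyQuasiFinite r := by
    refine quasiFinite_of_no_curve k r fun z hz y hy hsub => ?_
    obtain ⟨i, hi⟩ := hcov z
    let C := IntMult.ptIdeal z
    have hCs : (C.support : Set X) = closure {z} := CohDev.coe_support_ptIdeal z
    haveI : IsIntegral C.subscheme := S16188.isIntegral_subscheme _ isIrreducible_singleton.closure
    have hC1 : topologicalKrullDim (C.support : Set X) = 1 := by rw [hCs, hz]; rfl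
    have hamp := hcurves C inferInstance hC1
    let ι := C.subschemeι
    have htop : locus (O := ι ⁻¹ᵁ ⊤) (pb ι (σ i)) = ⊤ := by
      rw [locus_pb ι hM, ← hpre i]
      refine top_le_iff.1 fun w _ => ?_
      show r (ι w) ∈ Proj.basicOpen (CohB1.polyGrading c k) (T i)
      have hw : ι w ∈ closure ({z} : Set X) := by
        rw [← hCs, ← C.range_subschemeι]; exact ⟨w, rfl⟩
      have hzy : r z = y := hsub (subset_closure rfl)
      have hwy : r (ι w) = y := hsub hw
      rw [hwy, ← hzy]
      rw [← hpre i] at hi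
      exact hi
    obtain ⟨φ⟩ : Nonempty (Coh.structureModule C.subscheme ≅ (Scheme.Modules.pullback ι).obj M) := by
      have h := AmpleLib.isGen_locus (pb ι (σ i))
      rw! [htop] at h
      exact PerfSch.DescSec.nonempty_iso_of_isGen h
    obtain ⟨ψ⟩ := exists_iso_pullback_tensorPow ι hL K
    letI : C.subscheme.Over (Spec (CommRingCat.of k)) := ⟨C.subschemeι ≫ (X ↘ Spec (CommRingCat.of k))⟩
    haveI : IsProper (C.subscheme ↘ Spec (CommRingCat.of k)) :=
      inferInstanceAs (IsProper (C.subschemeι ≫ (X ↘ Spec (CommRingCat.of k))))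
    have hdC : topologicalKrullDim C.subscheme = 1 := by
      rw [IsHomeomorph.topologicalKrullDim_eq _ (C.subschemeι.isEmbedding.toHomeomorph.trans
        (Homeomorph.setCongr C.range_subschemeι)).isHomeomorph, hC1]
    have h1 := EulerChar.deg_pos_of_isAmple k hdC hamp
    have h2 := EulerChar.deg_iso k (n := 1) (φ ≪≫ ψ)
    rw [EulerChar.deg_tensorPow k hdC hamp.1] at h2
    simp only [Curv2.deg, Nat.cast_one, one_mul, sub_self] at h2
    have hK' : (0 : ℤ) < (K : ℤ) := by exact_mod_cast hK
    simp only [Curv2.deg, Nat.cast_one, one_mul] at h1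
    exact absurd h2 (ne_of_lt (mul_pos hK' h1))
  haveI : IsFinite r := IsFinite.of_isProper_of_locallyQuasiFinite r
  obtain ⟨K', hK'⟩ := Nat.exists_eq_add_of_le' hK
  refine ⟨hL, inferInstance, fun x => ?_⟩
  obtain ⟨i, hi⟩ := hcov x
  have haff : IsAffineOpen (locus (O := ⊤) (σ i)) := by
    rw [← hpre i]
    exact (Proj.isAffineOpen_basicOpen _ _ (hTh i) one_pos).preimage r
  have key : ∀ K₀, K₀ = K' + 1 → ∀ σ₀ : Γ(CohB1.tensorPow L K₀, ⊤), x ∈ locus (O := ⊤) σ₀ →
      IsAffineOpen (locus (O := ⊤) σ₀) →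
      ∃ (n : ℕ) (s : Coh.structureModule X ⟶ CohB1.tensorPow L (n + 1)),
        x ∈ CohB1.genLocus _ s ∧ IsAffineOpen (CohB1.genLocus _ s) := by
    rintro _ rfl σ₀ h1 h2
    refine ⟨K', homOfSec σ₀, ?_⟩
    rw [genLocus_homOfSec]
    exact ⟨h1, h2⟩
  exact key K hK' (σ i) hi haff

end Groth.Agent.IntProd70
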