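import Groth.Agent.AmpCrit.TwistDev

/-!
# Eventual vanishing of twists of coherent modules supported where the twist is ample
-/

set_option autoImplicit false
set_option linter.style.haveILetI false

universe u

open CategoryTheory Limits AlgebraicGeometry Opposite TopologicalSpace
open Coherent

noncomputable section

namespace Groth.Agent.IntProd70

open Groth.Agent.CohDev Groth.Agent.ProjTwist Groth.Agent.AmpleLib Groth.Agent.AmpCrit
  Groth.Agent.AmpCrit.NegVan Groth.Agent.AmpCrit.TwistDev

variable {X : Scheme.{u}}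

/-- Eventual vanishing of all higher cohomology of the twists. -/
def Vanish (L M : X.Modules) : Prop :=
  ∃ n₀ : ℕ, ∀ n : ℕ, n₀ ≤ n → ∀ i : ℕ, 0 < i →
    Subsingleton (Coh.HH X (CohB1.tensorMod M (CohB1.tensorPow L n)) i)

theorem vanish_of_iso {L M N : X.Modules} (e : M ≅ N) (h : Vanish L M) : Vanish L N := by
  obtain ⟨n₀, h⟩ := h
  refine ⟨n₀, fun n hn i hi => ?_⟩
  haveI := h n hn i hi
  exact subsingleton_HH_of_iso (tensCongr e (Iso.refl _)) i

/-- Twists of a coherent module supported on a closed set where `L` is ample on integral pieces. -/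
theorem vanish_of_support {R : Type u} [CommRing R] [IsNoetherianRing R]
    (f : X ⟶ Spec (CommRingCat.of R)) [IsProper f] {L : X.Modules} (hL : PicF.IsInvertible L)
    {S : Set X} (hS : IsClosed S)
    (hg : ∀ x ∈ S, CohB1.IsAmple ((Scheme.Modules.pullback (IntMult.ptIdeal x).subschemeι).obj L))
    {M : X.Modules} (hM : Coh.IsCoh M) (hs : CohB1.support M ⊆ S) : Vanish L M := by
  haveI : IsLocallyNoetherian X := LocallyOfFiniteType.isLocallyNoetherian f
  haveI : CompactSpace X := QuasiCompact.compactSpace_of_compactSpace f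
  haveI : AlgebraicGeometry.IsNoetherian X := ⟨⟩
  have hiso : ∀ A B : X.Modules, Nonempty (A ≅ B) → Vanish L A → Vanish L B :=
    fun A B ⟨e⟩ h => vanish_of_iso e h
  have hext : ∀ S' : ShortComplex X.Modules, S'.ShortExact → Coh.IsCoh S'.X₁ → Coh.IsCoh S'.X₂ →
      Coh.IsCoh S'.X₃ → CohB1.support S'.X₂ ⊆ S → Vanish L S'.X₁ → Vanish L S'.X₃ → Vanish L S'.X₂ := by
    rintro S' hS' - - - - ⟨a, ha⟩ ⟨b, hb⟩
    refine ⟨max a b, fun n hn i hi => ?_⟩
    have hT := shortExact_tensor (isInvertible_tensorPow hL n) hS'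
    haveI : Subsingleton (Coh.HH X (S'.map (T (CohB1.tensorPow L n))).X₁ i) :=
      ha n ((le_max_left a b).trans hn) i hi
    haveI : Subsingleton (Coh.HH X (S'.map (T (CohB1.tensorPow L n))).X₃ i) :=
      hb n ((le_max_right a b).trans hn) i hi
    exact CohLin.subsingleton_X₂ hT
  refine devissage_ext hS ?_ hext (fun x hx J hJ hsmall => ?_) hM hs
  · refine fun A hA => ⟨0, fun n _ i _ => subsingleton_HH_of_isZero ?_ i⟩
    let S' := ShortComplex.mk (𝟙 A) (𝟙 A) (hA.eq_of_src _ _)
    have hS' : S'.ShortExact :=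
      { exact := S'.exact_of_isZero_X₂ hA
        mono_f := inferInstanceAs (Mono (𝟙 A))
        epi_g := inferInstanceAs (Epi (𝟙 A)) }
    have hT := shortExact_tensor (isInvertible_tensorPow hL n) hS'
    have hz := (S'.map (T (CohB1.tensorPow L n))).zero
    change (T (CohB1.tensorPow L n)).map (𝟙 A) ≫ (T (CohB1.tensorPow L n)).map (𝟙 A) = 0 at hz
    rw [← Functor.map_comp, Category.comp_id, CategoryTheory.Functor.map_id] at hz
    exact (IsZero.iff_id_eq_zero _).mpr hz
  · haveI : IsIntegral (IntMult.ptIdeal x).subscheme :=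
      S16188.isIntegral_subscheme _ isIrreducible_singleton.closure
    let ι := (IntMult.ptIdeal x).subschemeι
    haveI : IsLocallyNoetherian (IntMult.ptIdeal x).subscheme :=
      LocallyOfFiniteType.isLocallyNoetherian ι
    haveI : CompactSpace (IntMult.ptIdeal x).subscheme := QuasiCompact.compactSpace_of_compactSpace ι
    haveI : AlgebraicGeometry.IsNoetherian (IntMult.ptIdeal x).subscheme := ⟨⟩
    obtain ⟨z, hz⟩ : ∃ z, ι z = x := by
      have : x ∈ Set.range ι := by
        rw [Scheme.IdealSheafData.range_subschemeι, coe_support_ptIdeal]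
        exact subset_closure rfl
      exact this
    have hrange : ∀ w, ι w ∈ closure ({x} : Set X) := fun w => by
      rw [← coe_support_ptIdeal, ← Scheme.IdealSheafData.range_subschemeι]
      exact ⟨w, rfl⟩
    have hxS : closure ({x} : Set X) ⊆ S := closure_minimal (Set.singleton_subset_iff.2 hx) hS
    have hpush : ∀ N : (IntMult.ptIdeal x).subscheme.Modules, Coh.IsCoh N →
        Vanish L ((Scheme.Modules.pushforward ι).obj N) := by
      intro N hN
      obtain ⟨n₀, h⟩ := SerreVan.serre_vanishing (ι ≫ f) (hg x hx) N hN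
      refine ⟨n₀, fun n hn i hi => ?_⟩
      obtain ⟨π⟩ := AmpCrit.ProjForm.nonempty_projIso ι N (isInvertible_tensorPow hL n)
      let N' := CohB1.tensorMod N (CohB1.tensorPow ((Scheme.Modules.pullback ι).obj L) n)
      haveI hN' : Coh.IsQCoh N' := by
        haveI := hN.1
        haveI : (CohB1.tensorPow ((Scheme.Modules.pullback ι).obj L) n).IsQuasicoherent :=
          isQCoh_of_isInvertible (isInvertible_tensorPow (hg x hx).1 n)
        exact LimTop.TensorQC.isQuasicoherent_tensM N _
      obtain ⟨a⟩ := S0012.result ι N' i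
      haveI := h n hn i hi
      haveI : Subsingleton (Coh.HH X ((Scheme.Modules.pushforward ι).obj N') i) :=
        a.symm.toEquiv.subsingleton
      exact subsingleton_HH_of_iso
        ((Scheme.Modules.pushforward ι).mapIso (tensCongr (Iso.refl N) (pullPowIso ι L n).symm) ≪≫
          π.symm) i
    have hroot : ∀ (F : X.Modules) (d : ℕ), Coh.IsCoh F → 1 ≤ d →
        Vanish L (∐ fun _ : Fin d => F) → Vanish L F := by
      rintro F d - hd ⟨n₀, h⟩
      refine ⟨n₀, fun n hn i hi => ?_⟩
      refine subsingleton_HH_of_retract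
        ((T (CohB1.tensorPow L n)).map (Sigma.ι (fun _ : Fin d => F) ⟨0, hd⟩))
        ((T (CohB1.tensorPow L n)).map (Sigma.desc fun _ : Fin d => 𝟙 F)) ?_ i (h n hn i hi)
      rw [← Functor.map_comp, Sigma.ι_desc, CategoryTheory.Functor.map_id]
    have hO := ProperFin.isCoh_structureModule (IntMult.ptIdeal x).subscheme
    let G := (Scheme.Modules.pushforward ι).obj (Coh.structureModule (IntMult.ptIdeal x).subscheme)
    have hG : Coh.IsCoh G := CycLib.isCoh_push _ ι hO
    have hGk : Killed (IntMult.ptIdeal x) G := killed_push_of_subset ι x hrange _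
    refine piece_of_model_ext hxS hext hiso hroot hsmall hG
      ((support_subset_of_killed hGk).trans (coe_support_ptIdeal x).le)
      (mem_support_push_of_eq ι hz) (fun a ha m => smul_stalk_of_killed hG.1 hGk ha m)
      (fun I hI => ⟨_, 𝟙 _, inferInstance, isCoh_idealMul I hG, ?_, ?_⟩) hJ
    · rw [Category.id_comp]
      exact bijective_idealMulι I hG hI
    · obtain ⟨e, -⟩ := S9523.result ι _ hO.1 I
      exact vanish_of_iso e.symm (hpush _ (isCoh_idealMul (I.comap ι) hO))

end Groth.Agent.IntProd70
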