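import Groth.Agent.IntProd70.GGAmple
import Groth.Agent.IntProd70.TwistVan
import Groth.Agent.HilbPolyX.Basic
import Groth.Agent.KoszSh77.Unit
import Groth.Agent.S4357
import Groth.Agent.EulerChar.Torsion
import Groth.Agent.Snapper.BaseChange
import Mathlib.Algebra.Group.ForwardDiff
import Mathlib.Analysis.Polynomial.Basic

/-!
# Sections of powers of a module of positive self-intersection
-/

universe u

set_option autoImplicit false
set_option linter.style.haveILetI false

open CategoryTheory CategoryTheory.Limits AlgebraicGeometry TopologicalSpace Opposite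
open Groth.Agent.PullStalk.Sky Groth.Agent.PullStalk.Exact

noncomputable section

namespace Groth.Agent.IntProd70

open ProjTwist Snapper

variable {X : Scheme.{u}}

/-- Lists of copies are powers. -/
theorem tensorList_map_const {ι : Type*} (L : X.Modules) :
    ∀ l : List ι, Nonempty (FGA.tensorList (l.map fun _ => L) ≅ CohB1.tensorPow L l.length)
  | [] => ⟨Iso.refl _⟩
  | a :: l => by
    obtain ⟨e⟩ := tensorList_map_const L l
    exact ⟨tensCongr (Iso.refl L) e ≪≫ tensComm L _⟩

variable (k : Type u) [Field k] [X.Over (Spec (CommRingCat.of k))]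
  [IsProper (X ↘ Spec (CommRingCat.of k))]

/-- Positive self-intersection makes the Euler characteristics of powers large. -/
theorem euler_pow_large {L : X.Modules} (hL : PicF.IsInvertible L) {d : ℕ} (hd0 : 0 < d)
    (hd : topologicalKrullDim X ≤ (d : WithBot ℕ∞))
    (hpos : 0 < intC k (fun _ : Fin d => L) (Coh.structureModule X)) (C : ℤ) :
    ∃ N : ℕ, ∀ m : ℕ, N ≤ m → C < Curv2.euler k X (CohB1.tensorPow L m) := by
  classical
  have hO := ProperFin.isCoh_structureModule X
  obtain ⟨P, hP⟩ := HilbPolyX.exists_hilbPoly k hL hO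
  have hdeg := HilbPolyX.natDegree_le k hL hO hP (EulerChar.dim_support_le hd)
  have hP' : ∀ m : ℕ, (Curv2.euler k X (CohB1.tensorPow L m) : ℚ) = P.eval (m : ℚ) := fun m => by
    rw [← hP m]
    exact congrArg _ (EulerChar.euler_iso k (oneTens (CohB1.tensorPow L m)).symm)
  have key : (intC k (fun _ : Fin d => L) (Coh.structureModule X) : ℚ) = (fwdDiff 1)^[d] P.eval 0 := by
    have hI : ∀ I : Finset (Fin d), Curv2.euler k X (CohB1.tensorMod
        (FGA.tensorList ((I.sort (· ≤ ·)).map fun _ : Fin d => L)) (Coh.structureModule X)) =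
          Curv2.euler k X (CohB1.tensorPow L I.card) := fun I => by
      obtain ⟨e⟩ := tensorList_map_const L (I.sort (· ≤ ·))
      rw [Finset.length_sort] at e
      exact EulerChar.euler_iso k (tensCongr e (Iso.refl _) ≪≫ tensOne _)
    rw [fwdDiff_iter_eq_sum_shift]
    simp only [zero_add, zsmul_eq_mul, smul_eq_mul, mul_one]
    unfold intC intE
    simp only [hI]
    push_cast
    rw [Finset.mul_sum]
    simp only [hP']
    rw [← Finset.powerset_univ, Finset.sum_powerset_apply_card
      (fun j => (-1 : ℚ) ^ d * ((-1) ^ j * P.eval (j : ℚ))), Finset.card_univ, Fintype.card_fin]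
    refine Finset.sum_congr rfl fun j hj => ?_
    have hjd : j ≤ d := Nat.lt_succ_iff.1 (Finset.mem_range.1 hj)
    rw [nsmul_eq_mul, show (-1 : ℚ) ^ d * ((-1) ^ j * P.eval (j : ℚ)) =
      (-1) ^ (d - j) * P.eval (j : ℚ) by
        rw [← mul_assoc, ← pow_add, show d + j = (d - j) + 2 * j by omega, pow_add, pow_mul]
        simp]
    simp only [nsmul_eq_mul, mul_one]
    ring
  have hdeg' : P.natDegree = d := by
    refine le_antisymm hdeg (Nat.le_of_not_lt fun hlt => ?_)
    rw [Polynomial.fwdDiff_iter_eq_zero_of_degree_lt hlt, Pi.zero_apply] at key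
    exact hpos.ne' (by exact_mod_cast key)
  have hlc : 0 < P.leadingCoeff := by
    rw [← hdeg', Polynomial.fwdDiff_iter_degree_eq_factorial] at key
    simp only [Pi.smul_apply, Pi.natCast_apply, smul_eq_mul] at key
    have h : (0 : ℚ) < P.leadingCoeff * (P.natDegree.factorial : ℚ) := by
      rw [← key]; exact_mod_cast hdeg'.symm ▸ hpos
    exact pos_of_mul_pos_left h (Nat.cast_nonneg _)
  have ht := P.tendsto_atTop_of_leadingCoeff_nonneg
    (Polynomial.natDegree_pos_iff_degree_pos.1 (hdeg' ▸ hd0)) hlc.le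
  obtain ⟨B, hB⟩ := Filter.eventually_atTop.1 (ht.eventually (Filter.eventually_gt_atTop (C : ℚ)))
  refine ⟨⌈B⌉₊, fun m hm => ?_⟩
  have h := hB (m : ℚ) ((Nat.le_ceil B).trans (by exact_mod_cast hm))
  rw [← hP'] at h
  exact_mod_cast h

variable [IsIntegral X]

/-- A submodule of a locally free module vanishing at the generic point vanishes. -/
theorem isZero_of_mono_generic {L K : X.Modules} (hL : PicF.IsInvertible L) (φ : K ⟶ L) [Mono φ]
    (h : genericPoint X ∉ CohB1.support K) : IsZero K := by
  refine CohDev.isZero_of_support_eq_empty (Set.eq_empty_iff_forall_notMem.2 fun y hy => hy ?_)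
  refine subsingleton_of_forall_eq 0 fun t => ?_
  obtain ⟨W, hyW, m, rfl⟩ := exists_germM_eq K y t
  apply CohDev.stalk_injective φ y
  rw [map_zero, stalkLin_germ]
  have hη : genericPoint X ∈ W := ((genericPoint_spec X).mem_open_set_iff W.2).2 ⟨y, trivial, hyW⟩
  have h0 : φ.app W m = 0 := EulerChar.eq_zero_of_germ_generic (ProjTwist.isFinLocFreeOfRank_one hL) hη _ (by
    rw [← stalkLin_germ, @Subsingleton.elim _ (not_not.1 h) (germM K W (genericPoint X) hη m) 0, map_zero])
  rw [h0]
  exact map_zero _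

include k in
/-- A common subsheaf of `O` and `L` with small cokernels. -/
theorem exists_sub {L : X.Modules} (hL : PicF.IsInvertible L) :
    ∃ (H : X.Modules) (a : H ⟶ Coh.structureModule X) (b : H ⟶ L), Mono a ∧ Mono b ∧ Coh.IsCoh H ∧
      genericPoint X ∉ CohB1.support (cokernel a) ∧ genericPoint X ∉ CohB1.support (cokernel b) := by
  haveI := EulerChar.isNoetherian k (X := X)
  have hO := PicLoc.isInvertible_structureModule X
  obtain ⟨eO⟩ := EulerChar.stalk_ofRank (ProjTwist.isFinLocFreeOfRank_one hO) (genericPoint X)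
  obtain ⟨eL⟩ := EulerChar.stalk_ofRank (ProjTwist.isFinLocFreeOfRank_one hL) (genericPoint X)
  obtain ⟨H, a, b, hH, hm, ha, hb⟩ := CohDev.exists_roof_at (ProperFin.isCoh_structureModule X)
    (VBLib.isCoh_of_ofRank (ProjTwist.isFinLocFreeOfRank_one hL)) (genericPoint X) (eO.symm.trans eL)
  have hma : Mono a := by
    refine Preadditive.mono_of_isZero_kernel a ?_
    haveI : Mono (kernel.ι a ≫ b) := Preadditive.mono_of_cancel_zero _ fun {W} z hz => by
      rw [← cancel_mono (kernel.ι a), zero_comp, ← cancel_mono (biprod.lift a b), zero_comp]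
      refine biprod.hom_ext _ _ ?_ ?_
      · simp
      · simpa using hz
    exact isZero_of_mono_generic hL (kernel.ι a ≫ b) (CohDev.not_mem_support_kernel a ha.1)
  have hmb : Mono b := by
    refine Preadditive.mono_of_isZero_kernel b ?_
    haveI : Mono (kernel.ι b ≫ a) := Preadditive.mono_of_cancel_zero _ fun {W} z hz => by
      rw [← cancel_mono (kernel.ι b), zero_comp, ← cancel_mono (biprod.lift a b), zero_comp]
      refine biprod.hom_ext _ _ ?_ ?_
      · simpa using hz
      · simp
    exact isZero_of_mono_generic hO (kernel.ι b ≫ a) (CohDev.not_mem_support_kernel b hb.1)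
  exact ⟨H, a, b, hma, hmb, hH, CohDev.not_mem_support_cokernel a ha.2,
    CohDev.not_mem_support_cokernel b hb.2⟩

variable {L : X.Modules} (hL : PicF.IsInvertible L)
  (hsub : ∀ x : X, x ≠ genericPoint X →
    CohB1.IsAmple ((Scheme.Modules.pullback (IntMult.ptIdeal x).subschemeι).obj L))

include k hL hsub in
/-- Twists of coherent modules missing the generic point lose their higher cohomology. -/
theorem vanish_small {M : X.Modules} (hM : Coh.IsCoh M) (hη : genericPoint X ∉ CohB1.support M) :
    ∃ n₀ : ℕ, ∀ n : ℕ, n₀ ≤ n → ∀ i : ℕ, 0 < i →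
      Subsingleton (Coh.HH X (CohB1.tensorMod (CohB1.tensorPow L n) M) i) := by
  haveI := EulerChar.isNoetherian k (X := X)
  obtain ⟨n₀, h⟩ := vanish_of_support (X ↘ Spec (CommRingCat.of k)) hL (CohDev.isClosed_support hM)
    (fun x hx => hsub x fun e => hη (e ▸ hx)) hM subset_rfl
  refine ⟨n₀, fun n hn i hi => ?_⟩
  haveI := h n hn i hi
  exact AmpCrit.subsingleton_HH_of_iso (tensComm _ _) i

omit [IsIntegral X] in
theorem finrank_iso {A B : X.Modules} (e : A ≅ B) (i : ℕ) :
    Module.finrank k (Coh.HH X A i) = Module.finrank k (Coh.HH X B i) :=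
  Snapper.finrank_HH_iso k e i

include k hL hsub in
/-- The cohomology in degrees `≥ 2` of the powers is eventually constant. -/
theorem finrank_stable :
    ∃ n₀ : ℕ, ∀ n : ℕ, n₀ ≤ n → ∀ i : ℕ, Module.finrank k (Coh.HH X (CohB1.tensorPow L n) (i + 2)) =
      Module.finrank k (Coh.HH X (CohB1.tensorPow L n₀) (i + 2)) := by
  haveI := EulerChar.isNoetherian k (X := X)
  obtain ⟨H, a, b, _, _, hH, ha, hb⟩ := exists_sub k hL
  have hLc := VBLib.isCoh_of_ofRank (ProjTwist.isFinLocFreeOfRank_one hL)
  have hOc := ProperFin.isCoh_structureModule X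
  obtain ⟨na, hna⟩ := vanish_small k hL hsub (CohDev.isCoh_cokernel a hH.1 hOc) ha
  obtain ⟨nb, hnb⟩ := vanish_small k hL hsub (CohDev.isCoh_cokernel b hH.1 hLc) hb
  have key : ∀ {B : X.Modules} (c : H ⟶ B) [Mono c] (n : ℕ),
      (∀ i, 0 < i → Subsingleton (Coh.HH X (CohB1.tensorMod (CohB1.tensorPow L n) (cokernel c)) i)) →
      ∀ i, Module.finrank k (Coh.HH X (CohB1.tensorMod (CohB1.tensorPow L n) H) (i + 2)) =
        Module.finrank k (Coh.HH X (CohB1.tensorMod (CohB1.tensorPow L n) B) (i + 2)) := by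
    intro B c _ n hvan i
    have hS : (ShortComplex.mk c (cokernel.π c) (cokernel.condition c)).ShortExact :=
      { exact := ShortComplex.exact_of_g_is_cokernel _ (cokernelIsCokernel c)
        mono_f := inferInstance
        epi_g := inferInstanceAs (Epi (cokernel.π c)) }
    have hT := CohDev.tens_shortExact (ProjTwist.isFinLocFreeOfRank_one
      (AmpleLib.isInvertible_tensorPow hL n)) hS
    haveI := hvan (i + 1) (Nat.succ_pos _)
    haveI := hvan (i + 2) (Nat.succ_pos _)
    refine (LinearEquiv.ofBijective (CohLin.overLin k (CohLin.hMap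
      (((DCoh.tensorBi (X := X)).obj (CohB1.tensorPow L n)).map c) (i + 2))) ⟨?_, ?_⟩).finrank_eq
    · refine (injective_iff_map_eq_zero _).2 fun x hx => ?_
      obtain ⟨y, hy⟩ := CohLin.exists_hδ_eq hT x hx
      rw [← hy, show y = 0 from @Subsingleton.elim _ (hvan (i + 1) (Nat.succ_pos _)) _ _, map_zero]
      rfl
    · exact fun y => CohLin.exists_hMap_f_eq hT y (@Subsingleton.elim _ (hvan (i + 2) (Nat.succ_pos _)) _ _)
  have step : ∀ n, max na nb ≤ n → ∀ i,
      Module.finrank k (Coh.HH X (CohB1.tensorPow L (n + 1)) (i + 2)) =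
        Module.finrank k (Coh.HH X (CohB1.tensorPow L n) (i + 2)) := fun n hn i => by
    rw [← finrank_iso k (tensOne (CohB1.tensorPow L n)),
      ← key a n (fun j hj => hna n ((le_max_left _ _).trans hn) j hj) i,
      key b n (fun j hj => hnb n ((le_max_right _ _).trans hn) j hj) i]
    rfl
  refine ⟨max na nb, fun n hn i => ?_⟩
  induction n, hn using Nat.le_induction with
  | base => rfl
  | succ n hn ih => rw [step n hn i, ih]

include k hL hsub in
/-- Powers have sections. -/
theorem exists_nonzero_section {d : ℕ} (hd0 : 0 < d)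
    (hd : topologicalKrullDim X ≤ (d : WithBot ℕ∞))
    (hpos : 0 < intC k (fun _ : Fin d => L) (Coh.structureModule X)) :
    ∃ (m : ℕ) (s : Coh.structureModule X ⟶ CohB1.tensorPow L (m + 1)), s ≠ 0 := by
  classical
  obtain ⟨n₀, hn₀⟩ := finrank_stable k hL hsub
  obtain ⟨t, ht⟩ := EulerChar.exists_bound k X
  let C : ℤ := ∑ i ∈ Finset.range t, (-1 : ℤ) ^ (i + 2) *
    (Module.finrank k (Coh.HH X (CohB1.tensorPow L n₀) (i + 2)) : ℤ)
  obtain ⟨N, hN⟩ := euler_pow_large k hL hd0 hd hpos C
  obtain ⟨m, hm⟩ : ∃ m, m + 1 = max (max N n₀) 1 := ⟨max (max N n₀) 1 - 1, by omega⟩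
  have h := hN (m + 1) (by omega)
  have hc := VBLib.isCoh_of_ofRank (ProjTwist.isFinLocFreeOfRank_one
    (AmpleLib.isInvertible_tensorPow hL (m + 1)))
  rw [EulerChar.euler_eq_sum k (t := t + 2) (fun p hp => ht _ hc.1 p (by omega)),
    Finset.sum_range_succ', Finset.sum_range_succ'] at h
  have hC : (∑ i ∈ Finset.range t, (-1 : ℤ) ^ (i + 2) *
      (Module.finrank k (Coh.HH X (CohB1.tensorPow L (m + 1)) (i + 2)) : ℤ)) = C :=
    Finset.sum_congr rfl fun i _ => by rw [hn₀ (m + 1) (by omega) i]
  have hpos0 : 0 < Module.finrank k (Coh.HH X (CohB1.tensorPow L (m + 1)) 0) := by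
    simp only [pow_zero, one_mul, zero_add, pow_one, neg_mul] at h
    linarith [hC, (Nat.cast_nonneg (Module.finrank k (Coh.HH X (CohB1.tensorPow L (m + 1)) 1)) :
      (0 : ℤ) ≤ _)]
  haveI := Module.nontrivial_of_finrank_pos hpos0
  obtain ⟨σ, hσ⟩ := exists_ne (0 : Coh.HH X (CohB1.tensorPow L (m + 1)) 0)
  refine ⟨m, Props.GenLocus.homOfSec (ProperFin.h0Sec _ σ), fun h0 => hσ ((ProperFin.h0Sec _).injective ?_)⟩
  rw [map_zero]
  have h1 := Props.GenLocus.sec_homOfSec (ProperFin.h0Sec _ σ) ⊤
  rw [h0, QCoh.res_self] at h1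
  exact h1.symm.trans rfl

include k hL hsub in
/-- A module ample on all smaller pieces with a nonzero section is semi-ample. -/
theorem exists_pow_genLocus' (s : Coh.structureModule X ⟶ L) (hs : s ≠ 0) {x : X}
    (hxc : IsClosed ({x} : Set X)) :
    ∃ (n : ℕ) (t : Coh.structureModule X ⟶ CohB1.tensorPow L (n + 1)), x ∈ CohB1.genLocus _ t := by
  haveI := EulerChar.isNoetherian k (X := X)
  have hO := PicLoc.isInvertible_structureModule X
  have hOc := ProperFin.isCoh_structureModule X
  have hLc := VBLib.isCoh_of_ofRank (ProjTwist.isFinLocFreeOfRank_one hL)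
  by_cases hsurj : Function.Surjective (stalkLin s x)
  · obtain ⟨t, ht⟩ := EulerChar.exists_genLocus_of_span hL (x := x) fun m => by
      obtain ⟨c, rfl⟩ := hsurj m
      obtain ⟨W, hxW, r, rfl⟩ := exists_germM_eq _ x c
      rw [stalkLin_germ]
      have e : s.app W r = (show Γ(X, W) from r) • Props.GenLocus.sec s W := Props.GenLocus.app_eq s W r
      rw [e, germM_smul]
      refine Submodule.smul_mem _ _ (Submodule.subset_span ⟨Props.GenLocus.sec s ⊤, ?_⟩)
      rw [← Props.GenLocus.sec_res s (le_top : W ≤ ⊤)]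
      exact (L.presheaf.germ_res_apply (homOfLE (le_top : W ≤ ⊤)) x hxW _).symm
    exact ⟨0, t ≫ (ProjTwist.oneTens L).symm.hom,
      (AmpleLib.genLocus_comp_iso t (ProjTwist.oneTens L).symm).symm ▸ ht⟩
  haveI := EulerChar.mono_of_ne_zero hO hL s hs
  let C := cokernel s
  have hC : Coh.IsCoh C := CohDev.isCoh_cokernel s hOc.1 hLc
  have hηC : genericPoint X ∉ CohB1.support C :=
    CohDev.not_mem_support_cokernel s (EulerChar.bijective_stalk_generic hO hL s hs).2
  have hS : (ShortComplex.mk s (cokernel.π s) (cokernel.condition s)).ShortExact :=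
    { exact := ShortComplex.exact_of_g_is_cokernel _ (cokernelIsCokernel s)
      mono_f := inferInstance
      epi_g := inferInstanceAs (Epi (cokernel.π s)) }
  have hxC : x ∈ CohB1.support C := fun hsub' => hsurj fun m => by
    obtain ⟨-, he, -⟩ := stalk_exact hS x
    exact (he m).1 (@Subsingleton.elim _ hsub' _ _)
  -- the restriction of the cokernel to the point
  let ι := (IntMult.ptIdeal x).subschemeι
  let D := (Scheme.Modules.pushforward ι).obj ((Scheme.Modules.pullback ι).obj C)
  let v : C ⟶ D := (Scheme.Modules.pullbackPushforwardAdjunction ι).unit.app C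
  haveI : Epi v := KoszSh77.epi_unit ι C
  haveI : C.IsQuasicoherent := hC.1
  have hpC := ZClosLib.CohDescent.isCoh_pullback ι C hC
  have hDc : Coh.IsCoh D := CycLib.isCoh_push _ ι hpC
  have hrange : Set.range ι = {x} := by
    rw [Scheme.IdealSheafData.range_subschemeι, CohDev.coe_support_ptIdeal, hxc.closure_eq]
  have hDs : CohB1.support D ⊆ {x} := fun y hy => by
    by_contra hne
    refine hy (ClUnit.subsingleton_stalk_pushforward ι _ y
      ⟨(Set.range ι)ᶜ, ι.isClosedEmbedding.isClosed_range.isOpen_compl⟩ ?_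
      (le_bot_iff.mp fun z hz => hz ⟨z, rfl⟩))
    show y ∈ (Set.range ι)ᶜ
    rw [hrange]; exact hne
  have hxD : x ∈ CohB1.support D := by
    obtain ⟨z, hz⟩ : x ∈ Set.range ι := hrange.ge rfl
    haveI : Coh.IsQCoh C := hC.1
    have hzC : z ∈ CohB1.support ((Scheme.Modules.pullback ι).obj C) := by
      rw [S4357.result ι C hC.2, Set.mem_preimage]
      exact (congrArg (· ∈ CohB1.support C) hz).mpr hxC
    intro hsub'
    refine hzC ?_
    have e := TopCat.Presheaf.stalkPushforward.stalkPushforward_iso_of_isInducing Ab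
      (f := ι.base) ι.isEmbedding.isInducing ((Scheme.Modules.pullback ι).obj C).presheaf z
    have hsz : Subsingleton (D.presheaf.stalk (ι z)) := by rw [hz]; exact hsub'
    haveI hsz' : Subsingleton (((TopCat.Presheaf.pushforward Ab ι.base).obj
        ((Scheme.Modules.pullback ι).obj C).presheaf).stalk (ι z)) := hsz
    exact (asIso (((Scheme.Modules.pullback ι).obj C).presheaf.stalkPushforward Ab ι.base z)).addCommGroupIsoToAddEquiv.toEquiv.symm.subsingleton
  have hK : Coh.IsCoh (kernel v) := CohDev.isCoh_kernel' v hC hDc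
  have hηK : genericPoint X ∉ CohB1.support (kernel v) := fun h =>
    hηC (CohDev.support_subset_of_mono (kernel.ι v) h)
  have hS₂ : (ShortComplex.mk (kernel.ι v) v (kernel.condition v)).ShortExact :=
    { exact := ShortComplex.exact_of_f_is_kernel _ (kernelIsKernel v)
      mono_f := inferInstanceAs (Mono (kernel.ι v))
      epi_g := inferInstance }
  let p : L ⟶ D := cokernel.π s ≫ v
  haveI : Epi p := epi_comp _ _
  have hS₃ : (ShortComplex.mk (kernel.ι p) p (kernel.condition p)).ShortExact :=
    { exact := ShortComplex.exact_of_f_is_kernel _ (kernelIsKernel p)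
      mono_f := inferInstanceAs (Mono (kernel.ι p))
      epi_g := inferInstance }
  -- choose the power
  obtain ⟨nC, hnC⟩ := vanish_small k hL hsub hC hηC
  obtain ⟨nK, hnK⟩ := vanish_small k hL hsub hK hηK
  let h : ℕ → ℕ := fun j => Module.finrank k (Coh.HH X (CohB1.tensorPow L (j + max nC nK)) 1)
  let j := Function.argmin h + max nC nK
  have hle : Module.finrank k (Coh.HH X (CohB1.tensorPow L j) 1) ≤
      Module.finrank k (Coh.HH X (CohB1.tensorPow L (j + 1)) 1) := by
    have := Function.argmin_le h (Function.argmin h + 1)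
    rwa [show h (Function.argmin h + 1) = Module.finrank k (Coh.HH X (CohB1.tensorPow L (j + 1)) 1) by
      show Module.finrank k (Coh.HH X (CohB1.tensorPow L (Function.argmin h + 1 + max nC nK)) 1) = _
      rw [show Function.argmin h + 1 + max nC nK = j + 1 by omega]] at this
  let V := CohB1.tensorPow L j
  have hV : PicF.IsInvertible V := AmpleLib.isInvertible_tensorPow hL j
  have hV1 := ProjTwist.isFinLocFreeOfRank_one hV
  have hVL : PicF.IsInvertible (CohB1.tensorMod V L) := AmpleLib.isInvertible_tensorMod hV hL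
  let F := (DCoh.tensorBi (X := X)).obj V
  have hT₁ := CohDev.tens_shortExact hV1 hS
  have hT₂ := CohDev.tens_shortExact hV1 hS₂
  have hT₃ := CohDev.tens_shortExact hV1 hS₃
  haveI : Subsingleton (Coh.HH X (CohDev.tens V C) 1) := hnC j (by omega) 1 one_pos
  haveI : Subsingleton (Coh.HH X (CohDev.tens V (kernel v)) 1) := hnK j (by omega) 1 one_pos
  have hs₁ : Function.Surjective (CohLin.hMap (F.map (cokernel.π s)) 0) := by
    refine EulerChar.surjective_h0 k (F.map s) (F.map (cokernel.π s)) _ hT₁
      (CohDev.isCoh_tens hV1 hOc) (CohDev.isCoh_tens hV1 hLc) ?_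
    refine le_trans (le_of_eq ?_) hle
    exact finrank_iso k (EulerChar.tensOne' V) 1
  have hs₂ : Function.Surjective (CohLin.hMap (F.map v) 0) := fun y =>
    CohLin.exists_hMap_g_eq hT₂ y (@Subsingleton.elim _ (hnK j (by omega) 1 one_pos) _ _)
  have hg : Function.Surjective (CohLin.hMap (F.map p) 0) := fun y => by
    obtain ⟨c, rfl⟩ := hs₂ y
    obtain ⟨b, rfl⟩ := hs₁ c
    exact ⟨b, by rw [← CohLin.hMap_comp, ← Functor.map_comp]⟩
  have hD'c := CohDev.isCoh_tens hV1 hDc
  have hD'd : topologicalKrullDim ↥(CohB1.support (CohDev.tens V D)) ≤ 0 :=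
    EulerChar.topDim_le_zero_of_finite ((Set.finite_singleton x).subset
      ((CohDev.support_tens_subset V D).trans hDs)) fun z hz => by
        rw [show z = x from (CohDev.support_tens_subset V D).trans hDs hz]; exact hxc
  have hx' : x ∈ CohB1.support (CohDev.tens V D) := by
    haveI := (VBLib.isCoh_of_ofRank hV1).2
    haveI := (VBLib.isCoh_of_ofRank hV1).1
    haveI := hDc.1
    haveI := hDc.2
    refine (LimTop.TensorQC.mem_support_tensM _ _ x).2 ⟨fun hsub' => ?_, hxD⟩
    obtain ⟨e⟩ := EulerChar.stalk_ofRank hV1 x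
    haveI := e.toEquiv.subsingleton_congr.2 hsub'
    exact one_ne_zero (congrFun (Subsingleton.elim (1 : Fin 1 → X.presheaf.stalk x) 0) 0)
  obtain ⟨eB⟩ := EulerChar.stalk_ofRank (ProjTwist.isFinLocFreeOfRank_one hVL) x
  obtain ⟨t, ht⟩ := EulerChar.exists_genLocus_of_span hVL (EulerChar.span_of_seq (F.map (kernel.ι p))
    (F.map p) _ hT₃ (EulerChar.isFlasque_of_support k hD'c hD'd) hg eB hx')
  exact ⟨j, t, ht⟩

end Groth.Agent.IntProd70
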